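import Cfsg.Agent.Lib.D4Deg.Elem
import Cfsg.Agent.Lib.G2Deg.Weights
import Cfsg.Agent.Lib.CharTheory.Degree

/-! Multiplicities on the abelian radical part of ³D₄. -/

set_option autoImplicit false
set_option linter.unusedSectionVars false
set_option linter.unusedVariables false
set_option linter.style.haveILetI false

namespace CfsgLib.D4Deg

open Cfsg.Lie CfsgLib.Chev CfsgLib.Chev.Chev CfsgLib.Chev.T3D4 CfsgLib.RadicalBound CfsgLib.OrthDeg CfsgLib.G2Deg

/-- Transport of a multiplicity along a conjugation between two subgroups. -/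
theorem mult_transfer {G : Type*} [Group G] {A : Type*} [AddCommGroup A] [Fintype A] {k : ℕ} (f₁ f₂ : A → G)
    (ρ : Representation ℂ G (Fin k → ℂ)) (h1 : ∀ S T, f₁ (S + T) = f₁ S * f₁ T)
    (h2 : ∀ S T, f₂ (S + T) = f₂ S * f₂ T) (g : G) (h : ∀ S, g * f₁ S = f₂ S * g) (χ : AddChar A ℂ) :
    mult f₁ ρ χ = mult f₂ ρ χ := by
  apply Nat.cast_injective (R := ℂ)
  rw [← trace_proj f₁ ρ h1, ← trace_proj f₂ ρ h2]
  have e : ρ g * proj f₁ ρ χ = proj f₂ ρ χ * ρ g := by
    simp only [CfsgLib.RadicalBound.proj, mul_smul_comm, smul_mul_assoc, Finset.mul_sum, Finset.sum_mul]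
    congr 1
    exact Finset.sum_congr rfl fun S _ => by rw [← map_mul, ← map_mul, h]
  have hi : ρ g⁻¹ * ρ g = 1 := by rw [← map_mul, inv_mul_cancel, map_one]
  have hi' : ρ g * ρ g⁻¹ = 1 := by rw [← map_mul, mul_inv_cancel, map_one]
  calc LinearMap.trace ℂ _ (proj f₁ ρ χ) = LinearMap.trace ℂ _ (ρ g⁻¹ * (ρ g * proj f₁ ρ χ)) := by
        rw [← mul_assoc, hi, one_mul]
    _ = LinearMap.trace ℂ _ (proj f₂ ρ χ * ρ g * ρ g⁻¹) := by rw [e, LinearMap.trace_mul_comm]
    _ = _ := by rw [mul_assoc, hi', mul_one]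

section Chars

variable {R : Type*} [CommRing R] [Fintype R]

/-- The character with given components. -/
noncomputable def ch {A B C : Type*} [AddCommGroup A] [AddCommGroup B] [AddCommGroup C] (a : AddChar A ℂ)
    (b : AddChar B ℂ) (c : AddChar C ℂ) : AddChar (A × B × C) ℂ :=
  a.compAddMonoidHom (AddMonoidHom.fst A (B × C)) *
    (b.compAddMonoidHom ((AddMonoidHom.fst B C).comp (AddMonoidHom.snd A (B × C))) *
      c.compAddMonoidHom ((AddMonoidHom.snd B C).comp (AddMonoidHom.snd A (B × C))))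

theorem ch_apply {A B C : Type*} [AddCommGroup A] [AddCommGroup B] [AddCommGroup C] (a : AddChar A ℂ)
    (b : AddChar B ℂ) (c : AddChar C ℂ) (S : A × B × C) : ch a b c S = a S.1 * (b S.2.1 * c S.2.2) := rfl

/-- Characters of a triple product. -/
noncomputable def chE (A B C : Type*) [AddCommGroup A] [AddCommGroup B] [AddCommGroup C] :
    AddChar A ℂ × AddChar B ℂ × AddChar C ℂ ≃ AddChar (A × B × C) ℂ where
  toFun x := ch x.1 x.2.1 x.2.2
  invFun χ := (χ.compAddMonoidHom (AddMonoidHom.inl A (B × C)),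
    χ.compAddMonoidHom ((AddMonoidHom.inr A (B × C)).comp (AddMonoidHom.inl B C)),
    χ.compAddMonoidHom ((AddMonoidHom.inr A (B × C)).comp (AddMonoidHom.inr B C)))
  left_inv := fun ⟨a, b, c⟩ => by
    refine Prod.ext ?_ (Prod.ext ?_ ?_) <;> (ext x; simp [ch_apply])
  right_inv χ := by
    ext ⟨a, b, c⟩
    simp only [ch_apply, AddChar.compAddMonoidHom_apply, AddMonoidHom.coe_comp, Function.comp_apply,
      AddMonoidHom.inl_apply, AddMonoidHom.inr_apply]
    rw [← AddChar.map_add_eq_mul, ← AddChar.map_add_eq_mul]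
    congr 1
    simp

theorem ch_one {A B C : Type*} [AddCommGroup A] [AddCommGroup B] [AddCommGroup C] :
    ch (1 : AddChar A ℂ) (1 : AddChar B ℂ) (1 : AddChar C ℂ) = 1 := by
  ext S; simp [ch_apply]

end Chars

variable {K : Type*} [Field K] [Fintype K] {q : ℕ} (hq : IsPrimePow q) (hK : Fintype.card K = q ^ 3)

/-- The parameters of the abelian subgroup. -/
abbrev AA := K × ↥(FF hq hK) × ↥(FF hq hK)

/-- The abelian subgroup of the roots 2a+b, 3a+b, 3a+2b. -/
noncomputable def fA (S : AA hq hK) : GG K q := x8 hq hK S.1 * x9 hq hK S.2.1 * x10 hq hK S.2.2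

theorem fA_add (S T : AA hq hK) : fA hq hK (S + T) = fA hq hK S * fA hq hK T := by
  rw [fA, fA, fA, Prod.fst_add, Prod.snd_add, Prod.fst_add, Prod.snd_add, x8_add, x9_add, x10_add,
    triple_add (c8_9 hq hK _ _) (c8_10 hq hK _ _) (c9_10 hq hK _ _)]

/-- Shearing by an additive map of the middle parameter into the last. -/
noncomputable def shB (s : ↥(FF hq hK)) : AA hq hK ≃+ AA hq hK where
  toFun S := (S.1, S.2.1, s * S.2.1 + S.2.2)
  invFun S := (S.1, S.2.1, -(s * S.2.1) + S.2.2)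
  left_inv S := by simp
  right_inv S := by simp
  map_add' S T := by
    simp only [Prod.fst_add, Prod.snd_add, Prod.mk_add_mk, mul_add]
    exact Prod.ext rfl (Prod.ext rfl (by simp only; abel))

theorem xb_fA (s : ↥(FF hq hK)) (S : AA hq hK) : xb hq hK s * fA hq hK S = fA hq hK (shB hq hK s S) * xb hq hK s := by
  obtain ⟨u, r, w⟩ := S
  show xb hq hK s * (x8 hq hK u * x9 hq hK r * x10 hq hK w) =
    x8 hq hK u * x9 hq hK r * x10 hq hK (s * r + w) * xb hq hK s
  rw [← mul_assoc, ← mul_assoc, ← (cb_8 hq hK u s).eq, mul_assoc (x8 hq hK u), xb_x9, x10_add]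
  simp only [mul_assoc]
  rw [(cb_10 hq hK w s).eq]

/-- The shear by an element of the root a+b. -/
noncomputable def sh7 (t : K) : AA hq hK ≃+ AA hq hK where
  toFun S := (S.1, S.2.1, tr hq hK (t * frob hq hK (frob hq hK S.1)) + S.2.2)
  invFun S := (S.1, S.2.1, -tr hq hK (t * frob hq hK (frob hq hK S.1)) + S.2.2)
  left_inv S := by simp
  right_inv S := by simp
  map_add' S T := by
    simp only [Prod.fst_add, Prod.snd_add, Prod.mk_add_mk, map_add, mul_add]
    exact Prod.ext rfl (Prod.ext rfl (by simp only; abel))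

theorem x7_fA (t : K) (S : AA hq hK) : x7 hq hK t * fA hq hK S = fA hq hK (sh7 hq hK t S) * x7 hq hK t := by
  obtain ⟨u, r, w⟩ := S
  show x7 hq hK t * (x8 hq hK u * x9 hq hK r * x10 hq hK w) =
    x8 hq hK u * x9 hq hK r * x10 hq hK (tr hq hK (t * frob hq hK (frob hq hK u)) + w) * x7 hq hK t
  rw [← mul_assoc, ← mul_assoc, x7_x8, mul_assoc _ (x7 hq hK t), (c7_9 hq hK t r).eq, x10_add]
  simp only [mul_assoc]
  rw [← mul_assoc (x10 hq hK (tr hq hK _)) (x9 hq hK r), ← (c9_10 hq hK r _).eq, (c7_10 hq hK t w).eq]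
  simp only [mul_assoc]

/-- The shear by an element of the short fundamental root. -/
noncomputable def shA (t : K) : AA hq hK ≃+ AA hq hK where
  toFun S := (S.1, -tr hq hK (t * S.1) + S.2.1, S.2.2)
  invFun S := (S.1, tr hq hK (t * S.1) + S.2.1, S.2.2)
  left_inv S := by simp
  right_inv S := by simp
  map_add' S T := by
    simp only [Prod.fst_add, Prod.snd_add, Prod.mk_add_mk, map_add, mul_add]
    exact Prod.ext rfl (Prod.ext (by simp only; abel) rfl)

theorem xa_fA (t : K) (S : AA hq hK) : xa hq hK t * fA hq hK S = fA hq hK (shA hq hK t S) * xa hq hK t := by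
  obtain ⟨u, r, w⟩ := S
  show xa hq hK t * (x8 hq hK u * x9 hq hK r * x10 hq hK w) =
    x8 hq hK u * x9 hq hK (-tr hq hK (t * u) + r) * x10 hq hK w * xa hq hK t
  rw [← mul_assoc, ← mul_assoc, xa_x8, mul_assoc _ (xa hq hK t), (ca_9 hq hK t r).eq, x9_add]
  simp only [mul_assoc]
  rw [(ca_10 hq hK t w).eq]

variable {d : Fin Cfsg.Lie.chevD4.rank → Kˣ} (hd : (tw hq hK).dmap d = d)

/-- The scaling by a torus element. -/
noncomputable def scT : AA hq hK ≃+ AA hq hK where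
  toFun S := ((wt d (rt 17) : K) * S.1, ⟨_, wt_mem hq hK hd (rt 22) (by decide +kernel)⟩ * S.2.1,
    ⟨_, wt_mem hq hK hd (rt 23) (by decide +kernel)⟩ * S.2.2)
  invFun S := ((wt d (rt 17) : K)⁻¹ * S.1,
    (⟨_, wt_mem hq hK hd (rt 22) (by decide +kernel)⟩ : ↥(FF hq hK))⁻¹ * S.2.1,
    (⟨_, wt_mem hq hK hd (rt 23) (by decide +kernel)⟩ : ↥(FF hq hK))⁻¹ * S.2.2)
  left_inv S := by
    have hz : ∀ (r : Fin Cfsg.Lie.chevD4.nroots) (h : (wt d r : K) ∈ FF hq hK),
        (⟨_, h⟩ : ↥(FF hq hK)) ≠ 0 := fun r h e => Units.ne_zero _ (congrArg Subtype.val e)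
    simp [← mul_assoc, hz]
  right_inv S := by
    have hz : ∀ (r : Fin Cfsg.Lie.chevD4.nroots) (h : (wt d r : K) ∈ FF hq hK),
        (⟨_, h⟩ : ↥(FF hq hK)) ≠ 0 := fun r h e => Units.ne_zero _ (congrArg Subtype.val e)
    simp [← mul_assoc, hz]
  map_add' S T := by simp [mul_add]

theorem hT_fA (S : AA hq hK) : hT hq hK d hd * fA hq hK S = fA hq hK (scT hq hK hd S) * hT hq hK d hd := by
  obtain ⟨u, r, w⟩ := S
  show hT hq hK d hd * (x8 hq hK u * x9 hq hK r * x10 hq hK w) =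
    x8 hq hK _ * x9 hq hK _ * x10 hq hK _ * hT hq hK d hd
  rw [← mul_assoc, ← mul_assoc, hT_x8, mul_assoc _ (hT hq hK d hd), hT_x9, ← mul_assoc,
    mul_assoc _ (hT hq hK d hd), hT_x10, ← mul_assoc]
  rfl

theorem scT_apply (S : AA hq hK) : scT hq hK hd S =
    ((wt d (rt 17) : K) * S.1, ⟨_, wt_mem hq hK hd (rt 22) (by decide +kernel)⟩ * S.2.1,
      ⟨_, wt_mem hq hK hd (rt 23) (by decide +kernel)⟩ * S.2.2) := rfl

/-- All characters of the fixed field come from one. -/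
theorem shift_F {c : AddChar ↥(FF hq hK) ℂ} (hc : c ≠ 1) (ξ : AddChar ↥(FF hq hK) ℂ) :
    ∃ s : ↥(FF hq hK), ∀ r, c (s * r) = ξ r := by
  classical
  let Φ : ↥(FF hq hK) → AddChar ↥(FF hq hK) ℂ := fun s => c.compAddMonoidHom (AddMonoidHom.mulLeft s)
  have hinj : Function.Injective Φ := by
    intro s t h
    by_contra hne
    obtain ⟨z, hz⟩ := AddChar.ne_one_iff.1 hc
    apply hz
    have e := DFunLike.congr_fun h ((s - t)⁻¹ * z)
    simp only [Φ, AddChar.compAddMonoidHom_apply, AddMonoidHom.coe_mulLeft] at e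
    have h' : s * ((s - t)⁻¹ * z) = t * ((s - t)⁻¹ * z) + z := by
      have := sub_ne_zero.2 hne
      field_simp
      ring
    rw [h', AddChar.map_add_eq_mul] at e
    exact mul_eq_left₀ ((AddChar.val_isUnit c _).ne_zero) |>.1 e
  obtain ⟨s, hs⟩ := ((Fintype.bijective_iff_injective_and_card Φ).2 ⟨hinj, (AddChar.card_eq).symm⟩).2 ξ
  exact ⟨s, fun r => DFunLike.congr_fun hs r⟩

include hq hK in
theorem exists_tr_ne : ∃ x : K, tr hq hK x ≠ 0 := by
  by_contra h
  push Not at h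
  have hz : ∀ x : K, x + x ^ q + x ^ q ^ 2 = 0 := fun x => by
    have := congrArg Subtype.val (h x)
    rw [tr_val, frob_apply, frob_apply, ← pow_mul, ← sq] at this
    exact this
  have h1 := hq.one_lt
  have hlt : q < q ^ 2 := by nlinarith
  set P : Polynomial K := Polynomial.X + Polynomial.X ^ q + Polynomial.X ^ (q ^ 2) with hP
  have hdeg : P.natDegree ≤ q ^ 2 := by
    rw [hP]
    refine Polynomial.natDegree_add_le_of_degree_le (Polynomial.natDegree_add_le_of_degree_le ?_ ?_) ?_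
    · rw [Polynomial.natDegree_X]; omega
    · rw [Polynomial.natDegree_X_pow]; omega
    · rw [Polynomial.natDegree_X_pow]
  have hP0 : P = 0 := Polynomial.eq_zero_of_natDegree_lt_card_of_eval_eq_zero P Function.injective_id
    (fun t => by simp only [hP, Polynomial.eval_add, Polynomial.eval_pow, Polynomial.eval_X, id_eq]; exact hz t)
    (by rw [hK]; nlinarith)
  have hc := congrArg (fun Q => Polynomial.coeff Q (q ^ 2)) hP0
  simp only [hP, Polynomial.coeff_add, Polynomial.coeff_X_pow, Polynomial.coeff_X,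
    if_neg (show ¬ 1 = q ^ 2 by omega), if_neg (show ¬ q ^ 2 = q by omega), Polynomial.coeff_zero,
    if_pos, zero_add, one_ne_zero] at hc

theorem tr_smul (s : ↥(FF hq hK)) (x : K) : tr hq hK ((s : K) * x) = s * tr hq hK x := by
  refine Subtype.ext ?_
  have hs : frob hq hK (s : K) = s := s.2
  rw [Subfield.coe_mul, tr_val, tr_val, map_mul, map_mul, hs, hs]
  ring

/-- All characters of the field come from one of the fixed field through the trace. -/
theorem shift_K {c : AddChar ↥(FF hq hK) ℂ} (hc : c ≠ 1) (ξ : AddChar K ℂ) :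
    ∃ t : K, ∀ u, c (tr hq hK (t * u)) = ξ u := by
  classical
  let Φ : K → AddChar K ℂ := fun t => c.compAddMonoidHom ((tr hq hK).comp (AddMonoidHom.mulLeft t))
  have hinj : Function.Injective Φ := by
    intro s t h
    by_contra hne
    obtain ⟨z, hz⟩ := AddChar.ne_one_iff.1 hc
    obtain ⟨x, hx⟩ := exists_tr_ne hq hK
    apply hz
    have e := DFunLike.congr_fun h ((s - t)⁻¹ * (((z * (tr hq hK x)⁻¹ : ↥(FF hq hK)) : K) * x))
    simp only [Φ, AddChar.compAddMonoidHom_apply, AddMonoidHom.coe_comp, Function.comp_apply,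
      AddMonoidHom.coe_mulLeft] at e
    have h' : ∀ y : K, s * ((s - t)⁻¹ * y) = t * ((s - t)⁻¹ * y) + y := fun y => by
      have := sub_ne_zero.2 hne
      field_simp
      ring
    rw [h', map_add, AddChar.map_add_eq_mul, tr_smul, mul_assoc, inv_mul_cancel₀ hx, mul_one] at e
    exact mul_eq_left₀ ((AddChar.val_isUnit c _).ne_zero) |>.1 e
  obtain ⟨t, ht⟩ := ((Fintype.bijective_iff_injective_and_card Φ).2 ⟨hinj, (AddChar.card_eq).symm⟩).2 ξ
  exact ⟨t, fun u => DFunLike.congr_fun ht u⟩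

variable {k : ℕ} (ρ : Representation ℂ (GG K q) (Fin k → ℂ))

/-- The multiplicity of a triple of characters. -/
noncomputable def MA (a : AddChar K ℂ) (b c : AddChar ↥(FF hq hK) ℂ) : ℕ := mult (fA hq hK) ρ (ch a b c)

theorem MA_b {a : AddChar K ℂ} (b : AddChar ↥(FF hq hK) ℂ) {c : AddChar ↥(FF hq hK) ℂ} (hc : c ≠ 1) :
    MA hq hK ρ a b c = MA hq hK ρ a 1 c := by
  obtain ⟨s, hs⟩ := shift_F hq hK hc b
  refine mult_conj (fA hq hK) ρ (fA_add hq hK) (xb hq hK s) (shB hq hK s) (xb_fA hq hK s) _ _ fun S => ?_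
  show ch a 1 c (S.1, S.2.1, s * S.2.1 + S.2.2) = _
  rw [ch_apply, ch_apply, AddChar.map_add_eq_mul, hs, AddChar.one_apply, one_mul]

theorem MA_a {a : AddChar K ℂ} {b c : AddChar ↥(FF hq hK) ℂ} (hc : c ≠ 1) :
    MA hq hK ρ a b c = MA hq hK ρ 1 b c := by
  obtain ⟨t, ht⟩ := shift_K hq hK hc (a.compAddMonoidHom (frob hq hK : K →+* K).toAddMonoidHom)
  refine mult_conj (fA hq hK) ρ (fA_add hq hK) (x7 hq hK t) (sh7 hq hK t) (x7_fA hq hK t) _ _ fun S => ?_
  show ch 1 b c (S.1, S.2.1, tr hq hK (t * frob hq hK (frob hq hK S.1)) + S.2.2) = _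
  rw [ch_apply, ch_apply, AddChar.map_add_eq_mul, ht, AddChar.one_apply, one_mul, AddChar.compAddMonoidHom_apply]
  show b S.2.1 * (a (frob hq hK (frob hq hK (frob hq hK S.1))) * c S.2.2) = _
  rw [frob_cube]
  ring

theorem MA_mid {a : AddChar K ℂ} {b c : AddChar ↥(FF hq hK) ℂ} (hb : b ≠ 1) :
    MA hq hK ρ a b c = MA hq hK ρ 1 b c := by
  obtain ⟨t, ht⟩ := shift_K hq hK hb a
  refine mult_conj (fA hq hK) ρ (fA_add hq hK) (xa hq hK (-t)) (shA hq hK (-t)) (xa_fA hq hK (-t)) _ _ fun S => ?_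
  show ch 1 b c (S.1, -tr hq hK (-t * S.1) + S.2.1, S.2.2) = _
  rw [ch_apply, ch_apply, neg_mul, map_neg, neg_neg, AddChar.map_add_eq_mul, ht, AddChar.one_apply, one_mul, mul_assoc]

theorem MA_top {c c' : AddChar ↥(FF hq hK) ℂ} (hc : c ≠ 1) (hc' : c' ≠ 1) :
    MA hq hK ρ 1 1 c = MA hq hK ρ 1 1 c' := by
  obtain ⟨s, hs⟩ := shift_F hq hK hc' c
  have hs0 : (s : K) ≠ 0 := fun h0 => hc (by
    ext r
    rw [← hs, show s = 0 from Subtype.ext h0, zero_mul, AddChar.map_zero_eq_one, AddChar.one_apply])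
  have hd : (tw hq hK).dmap (vec4 1 (Units.mk0 (s : K) hs0) 1 1) = vec4 1 (Units.mk0 (s : K) hs0) 1 1 :=
    (stable_iff hq hK _).mpr ⟨Units.ext (by rw [Units.val_pow_eq_pow_val]; exact FF_pow hq hK s),
      (one_pow q).symm, by show (1 : Kˣ) = ((1 : Kˣ) ^ q) ^ q; rw [one_pow, one_pow]⟩
  refine mult_conj (fA hq hK) ρ (fA_add hq hK) _ (scT hq hK hd) (hT_fA hq hK hd) _ _ fun S => ?_
  rw [scT_apply, ch_apply, ch_apply, AddChar.one_apply, AddChar.one_apply, AddChar.one_apply, AddChar.one_apply,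
    one_mul, one_mul, one_mul, one_mul, ← hs]
  congr 1
  refine Subtype.ext ?_
  show _ * (S.2.2 : K) = (s : K) * (S.2.2 : K)
  congr 1
  show (wt (vec4 1 (Units.mk0 (s : K) hs0) 1 1) (rt 23) : K) = s
  rw [wt, chi_coHom, show Cfsg.Lie.chevD4.cartan 1 (rt 23).val = 1 by decide +kernel]
  simp [vec4, ix]

theorem MA_const {a a' : AddChar K ℂ} {b b' c c' : AddChar ↥(FF hq hK) ℂ} (hc : c ≠ 1) (hc' : c' ≠ 1) :
    MA hq hK ρ a b c = MA hq hK ρ a' b' c' := by
  rw [MA_a hq hK ρ hc, MA_b hq hK ρ b hc, MA_a hq hK ρ hc', MA_b hq hK ρ b' hc', MA_top hq hK ρ hc hc']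

theorem sum_MA : ∑ c : AddChar ↥(FF hq hK) ℂ, ∑ b : AddChar ↥(FF hq hK) ℂ, ∑ a : AddChar K ℂ,
    MA hq hK ρ a b c = k := by
  classical
  conv_rhs => rw [← sum_mult (fA hq hK) ρ (fA_add hq hK), ← (chE K ↥(FF hq hK) ↥(FF hq hK)).sum_comp,
    Fintype.sum_prod_type, Finset.sum_comm]
  rw [Fintype.sum_prod_type, Finset.sum_comm]
  rfl

/-- The multiplicity on the root 3a+b. -/
theorem mult9 (b : AddChar ↥(FF hq hK) ℂ) :
    mult (x9 hq hK) ρ b = ∑ c : AddChar ↥(FF hq hK) ℂ, ∑ a : AddChar K ℂ, MA hq hK ρ a b c := by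
  classical
  let ι : ↥(FF hq hK) →+ AA hq hK :=
    (AddMonoidHom.inr K (↥(FF hq hK) × ↥(FF hq hK))).comp (AddMonoidHom.inl ↥(FF hq hK) ↥(FF hq hK))
  have e : x9 hq hK = fA hq hK ∘ ι := funext fun r => by
    show x9 hq hK r = x8 hq hK 0 * x9 hq hK r * x10 hq hK 0
    have h8 : x8 hq hK 0 = 1 := by have := x8_add hq hK 0 0; rwa [add_zero, left_eq_mul] at this
    have h10 : x10 hq hK 0 = 1 := by have := x10_add hq hK 0 0; rwa [add_zero, left_eq_mul] at this
    rw [h8, h10, one_mul, mul_one]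
  rw [e, marginal (fA hq hK) ρ (fA_add hq hK) ι, Finset.sum_filter,
    ← (chE K ↥(FF hq hK) ↥(FF hq hK)).sum_comp]
  have key : ∀ x : AddChar K ℂ × AddChar ↥(FF hq hK) ℂ × AddChar ↥(FF hq hK) ℂ,
      (chE K ↥(FF hq hK) ↥(FF hq hK) x).compAddMonoidHom ι = x.2.1 := fun x => by
    ext r
    show ch x.1 x.2.1 x.2.2 (0, r, 0) = _
    rw [ch_apply, AddChar.map_zero_eq_one, AddChar.map_zero_eq_one, one_mul, mul_one]
  simp only [key]
  rw [Fintype.sum_prod_type, Finset.sum_comm (s := (Finset.univ : Finset (AddChar ↥(FF hq hK) ℂ)))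
    (t := (Finset.univ : Finset (AddChar K ℂ)))]
  refine Finset.sum_congr rfl fun a _ => ?_
  rw [Fintype.sum_prod_type, Finset.sum_comm]
  refine Finset.sum_congr rfl fun c _ => ?_
  rw [Finset.sum_ite_eq' Finset.univ b, if_pos (Finset.mem_univ _)]
  rfl

/-- The multiplicity on the highest root, rescaled. -/
theorem mult10 (e : ↥(FF hq hK)) (he : e ≠ 0) (c : AddChar ↥(FF hq hK) ℂ) :
    mult (fun r => x10 hq hK (e * r)) ρ c =
      ∑ b : AddChar ↥(FF hq hK) ℂ, ∑ a : AddChar K ℂ,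
        MA hq hK ρ a b (c.compAddMonoidHom (AddMonoidHom.mulLeft e⁻¹)) := by
  classical
  let ι : ↥(FF hq hK) →+ AA hq hK :=
    ((AddMonoidHom.inr K (↥(FF hq hK) × ↥(FF hq hK))).comp (AddMonoidHom.inr ↥(FF hq hK) ↥(FF hq hK))).comp
      (AddMonoidHom.mulLeft e)
  have e' : (fun r => x10 hq hK (e * r)) = fA hq hK ∘ ι := funext fun r => by
    show x10 hq hK (e * r) = x8 hq hK 0 * x9 hq hK 0 * x10 hq hK (e * r)
    have h8 : x8 hq hK 0 = 1 := by have := x8_add hq hK 0 0; rwa [add_zero, left_eq_mul] at this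
    have h9 : x9 hq hK 0 = 1 := by have := x9_add hq hK 0 0; rwa [add_zero, left_eq_mul] at this
    rw [h8, h9, one_mul, one_mul]
  rw [e', marginal (fA hq hK) ρ (fA_add hq hK) ι, Finset.sum_filter,
    ← (chE K ↥(FF hq hK) ↥(FF hq hK)).sum_comp]
  have key : ∀ x : AddChar K ℂ × AddChar ↥(FF hq hK) ℂ × AddChar ↥(FF hq hK) ℂ,
      ((chE K ↥(FF hq hK) ↥(FF hq hK) x).compAddMonoidHom ι = c) =
        (x.2.2 = c.compAddMonoidHom (AddMonoidHom.mulLeft e⁻¹)) := fun x => by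
    have h : (chE K ↥(FF hq hK) ↥(FF hq hK) x).compAddMonoidHom ι =
        x.2.2.compAddMonoidHom (AddMonoidHom.mulLeft e) := by
      ext r
      show ch x.1 x.2.1 x.2.2 (0, 0, e * r) = _
      rw [ch_apply, AddChar.map_zero_eq_one, AddChar.map_zero_eq_one, one_mul, one_mul]
      rfl
    rw [h, eq_iff_iff]
    constructor <;> intro hh
    · rw [← hh]; ext r
      show x.2.2 r = x.2.2 (e * (e⁻¹ * r))
      rw [mul_inv_cancel_left₀ he]
    · rw [hh]; ext r
      show c (e⁻¹ * (e * r)) = c r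
      rw [inv_mul_cancel_left₀ he]
  simp only [key]
  rw [Fintype.sum_prod_type, Finset.sum_comm (s := (Finset.univ : Finset (AddChar ↥(FF hq hK) ℂ)))
    (t := (Finset.univ : Finset (AddChar K ℂ)))]
  refine Finset.sum_congr rfl fun a _ => ?_
  rw [Fintype.sum_prod_type]
  refine Finset.sum_congr rfl fun b _ => ?_
  rw [Finset.sum_ite_eq' Finset.univ, if_pos (Finset.mem_univ _)]
  rfl

end CfsgLib.D4Deg
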