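import Cfsg.Agent.Lib.D4Deg.Rels

/-! Torus and Weyl elements of ³D₄, and a relation in characteristic two. -/

set_option autoImplicit false
set_option linter.unusedSectionVars false
set_option linter.unusedSimpArgs false
set_option linter.unusedVariables false
set_option maxRecDepth 100000

namespace CfsgLib.D4Deg

open Cfsg.Lie CfsgLib.Chev CfsgLib.Chev.Chev CfsgLib.Chev.T3D4

variable {K : Type*} [Field K] [Fintype K] {q : ℕ} (hq : IsPrimePow q) (hK : Fintype.card K = q ^ 3)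

theorem refl_idx (i : Fin Cfsg.Lie.chevD4.rank) (r k : Fin Cfsg.Lie.chevD4.nroots)
    (h : Cfsg.Lie.chevD4.reflectRoot i.val r.val = k.val) : CfsgLib.Chev.chevD4.refl i r = k :=
  Fin.ext ((CfsgLib.Chev.chevD4.reflectRoot_eq i r).symm.trans h)

theorem nw_Y (i : Fin Cfsg.Lie.chevD4.rank) (r k : Fin Cfsg.Lie.chevD4.nroots)
    (h : Cfsg.Lie.chevD4.reflectRoot i.val r.val = k.val) (t : K) :
    CfsgLib.Chev.chevD4.nw (CfsgLib.Chev.chevD4.p i) 1 * Y r t =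
      Y k ((CfsgLib.Chev.chevD4.eta i r : K) * t) * CfsgLib.Chev.chevD4.nw (CfsgLib.Chev.chevD4.p i) 1 := by
  rw [Y, Y, CfsgLib.Chev.chevD4.nw_conj_xg, refl_idx i r k h]

include hq hK in
theorem fix_mem {g : GL Cfsg.Lie.chevD4.Idx K} (hg : g ∈ Cfsg.Lie.chevD4.group K)
    (h : (tw hq hK).app g = g) : g ∈ twistedD4 K q := by
  rw [eq_fix hq hK]
  exact (Tw.mem_fix _).2 ⟨hg, h⟩

/-- The Weyl element of the long fundamental root. -/
noncomputable def nB : GG K q :=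
  ⟨CfsgLib.Chev.chevD4.nw (CfsgLib.Chev.chevD4.p (ix 1)) 1, fix_mem hq hK (CfsgLib.Chev.chevD4.nw_mem_group _ _) (by
    rw [Tw.app_nw, tau_cases.2.1, one_pow])⟩

/-- The Weyl element of the short fundamental orbit. -/
noncomputable def nA : GG K q :=
  ⟨CfsgLib.Chev.chevD4.nw (CfsgLib.Chev.chevD4.p (ix 0)) 1 * CfsgLib.Chev.chevD4.nw (CfsgLib.Chev.chevD4.p (ix 2)) 1 *
      CfsgLib.Chev.chevD4.nw (CfsgLib.Chev.chevD4.p (ix 3)) 1,
    fix_mem hq hK (mul_mem (mul_mem (CfsgLib.Chev.chevD4.nw_mem_group _ _) (CfsgLib.Chev.chevD4.nw_mem_group _ _))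
      (CfsgLib.Chev.chevD4.nw_mem_group _ _)) (by
      have g := fun r => CfsgLib.Chev.chevD4.nw_mem_group (F := K) r 1
      rw [Tw.app_mul _ (mul_mem (g _) (g _)) (g _), Tw.app_mul _ (g _) (g _), Tw.app_nw, Tw.app_nw, Tw.app_nw,
        tau_cases.1, tau_cases.2.2.1, tau_cases.2.2.2, one_pow, one_pow, one_pow,
        ((Tw.orth_nw orb1.oij (1 : Kˣ) 1).symm.mul_left (Tw.orth_nw orb1.oil (1 : Kˣ) 1).symm).eq, mul_assoc])⟩

/-- A sign. -/
theorem eta_ne (i : Fin Cfsg.Lie.chevD4.rank) (r : Fin Cfsg.Lie.chevD4.nroots) :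
    (CfsgLib.Chev.chevD4.eta i r : K) ≠ 0 := by
  rcases CfsgLib.Chev.chevD4.eta_unit i r with h | h <;> simp [h]

theorem eta_pow (i : Fin Cfsg.Lie.chevD4.rank) (r : Fin Cfsg.Lie.chevD4.nroots) :
    (CfsgLib.Chev.chevD4.eta i r : K) ∈ FF hq hK := intCast_mem _ _

theorem nB_x9 : ∃ e : ↥(FF hq hK), e ≠ 0 ∧ ∀ s, nB hq hK * x9 hq hK s = x10 hq hK (e * s) * nB hq hK :=
  ⟨⟨_, eta_pow hq hK (ix 1) (rt 22)⟩, fun h => eta_ne _ _ (congrArg Subtype.val h), fun s => Subtype.ext (by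
    simp only [Subgroup.coe_mul, x9_val, x10_val, Subfield.coe_mul]
    exact nw_Y (ix 1) (rt 22) (rt 23) (by decide +kernel) _)⟩

theorem nB_x10 : ∃ e : ↥(FF hq hK), e ≠ 0 ∧ ∀ s, nB hq hK * x10 hq hK s = x9 hq hK (e * s) * nB hq hK :=
  ⟨⟨_, eta_pow hq hK (ix 1) (rt 23)⟩, fun h => eta_ne _ _ (congrArg Subtype.val h), fun s => Subtype.ext (by
    simp only [Subgroup.coe_mul, x9_val, x10_val, Subfield.coe_mul]
    exact nw_Y (ix 1) (rt 23) (rt 22) (by decide +kernel) _)⟩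

theorem nA_val : ((nA hq hK : GG K q) : GL Cfsg.Lie.chevD4.Idx K) =
    CfsgLib.Chev.chevD4.nw (CfsgLib.Chev.chevD4.p (ix 0)) 1 * CfsgLib.Chev.chevD4.nw (CfsgLib.Chev.chevD4.p (ix 2)) 1 *
      CfsgLib.Chev.chevD4.nw (CfsgLib.Chev.chevD4.p (ix 3)) 1 := rfl

theorem conj_three {G : Type*} [Group G] {a b c y y₁ y₂ y₃ : G} (h3 : c * y = y₃ * c) (h2 : b * y₃ = y₂ * b)
    (h1 : a * y₂ = y₁ * a) : a * b * c * y = y₁ * (a * b * c) := by
  rw [mul_assoc _ c, h3, ← mul_assoc, mul_assoc a, h2, ← mul_assoc, h1]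
  simp only [mul_assoc]

theorem nA_Y (r k1 k2 k3 : Fin Cfsg.Lie.chevD4.nroots) (h3 : Cfsg.Lie.chevD4.reflectRoot (ix 3).val r.val = k3.val)
    (h2 : Cfsg.Lie.chevD4.reflectRoot (ix 2).val k3.val = k2.val)
    (h1 : Cfsg.Lie.chevD4.reflectRoot (ix 0).val k2.val = k1.val) (t : K) :
    ((nA hq hK : GG K q) : GL Cfsg.Lie.chevD4.Idx K) * Y r t =
      Y k1 ((CfsgLib.Chev.chevD4.eta (ix 0) k2 : K) * ((CfsgLib.Chev.chevD4.eta (ix 2) k3 : K) *
        ((CfsgLib.Chev.chevD4.eta (ix 3) r : K) * t))) * ((nA hq hK : GG K q) : GL Cfsg.Lie.chevD4.Idx K) := by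
  rw [nA_val]
  exact conj_three (nw_Y (ix 3) r k3 h3 _) (nw_Y (ix 2) k3 k2 h2 _) (nw_Y (ix 0) k2 k1 h1 _)

theorem nA_xb : ∃ e : ↥(FF hq hK), e ≠ 0 ∧ ∀ s, nA hq hK * xb hq hK s = x9 hq hK (e * s) * nA hq hK :=
  ⟨⟨_, mul_mem (eta_pow hq hK (ix 0) (rt 17)) (mul_mem (eta_pow hq hK (ix 2) (rt 15)) (eta_pow hq hK (ix 3) (rt 14)))⟩,
    fun h => mul_ne_zero (eta_ne _ _) (mul_ne_zero (eta_ne _ _) (eta_ne _ _)) (congrArg Subtype.val h),
    fun s => Subtype.ext (by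
      simp only [Subgroup.coe_mul, xb_val, x9_val, Subfield.coe_mul]
      rw [nA_Y hq hK (rt 14) (rt 22) (rt 17) (rt 15) (by decide +kernel) (by decide +kernel) (by decide +kernel)]
      simp only [mul_assoc])⟩

theorem nA_x9 : ∃ e : ↥(FF hq hK), e ≠ 0 ∧ ∀ s, nA hq hK * x9 hq hK s = xb hq hK (e * s) * nA hq hK :=
  ⟨⟨_, mul_mem (eta_pow hq hK (ix 0) (rt 19)) (mul_mem (eta_pow hq hK (ix 2) (rt 21)) (eta_pow hq hK (ix 3) (rt 22)))⟩,
    fun h => mul_ne_zero (eta_ne _ _) (mul_ne_zero (eta_ne _ _) (eta_ne _ _)) (congrArg Subtype.val h),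
    fun s => Subtype.ext (by
      simp only [Subgroup.coe_mul, xb_val, x9_val, Subfield.coe_mul]
      rw [nA_Y hq hK (rt 22) (rt 14) (rt 19) (rt 21) (by decide +kernel) (by decide +kernel) (by decide +kernel)]
      simp only [mul_assoc])⟩

theorem nA_x10 : ∃ e : ↥(FF hq hK), e ≠ 0 ∧ ∀ s, nA hq hK * x10 hq hK s = x10 hq hK (e * s) * nA hq hK :=
  ⟨⟨_, mul_mem (eta_pow hq hK (ix 0) (rt 23)) (mul_mem (eta_pow hq hK (ix 2) (rt 23)) (eta_pow hq hK (ix 3) (rt 23)))⟩,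
    fun h => mul_ne_zero (eta_ne _ _) (mul_ne_zero (eta_ne _ _) (eta_ne _ _)) (congrArg Subtype.val h),
    fun s => Subtype.ext (by
      simp only [Subgroup.coe_mul, x10_val, Subfield.coe_mul]
      rw [nA_Y hq hK (rt 23) (rt 23) (rt 23) (rt 23) (by decide +kernel) (by decide +kernel) (by decide +kernel)]
      simp only [mul_assoc])⟩

/-- A rational torus element. -/
noncomputable def hT (d : Fin Cfsg.Lie.chevD4.rank → Kˣ) (hd : (tw hq hK).dmap d = d) : GG K q :=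
  ⟨Tw.tor (Φ := CfsgLib.Chev.chevD4) d, fix_mem hq hK (CfsgLib.Chev.chevD4.H_le_group (Tw.tor_mem_H d))
    (by rw [Tw.app_tor, hd])⟩

theorem chi_coHom (d : Fin Cfsg.Lie.chevD4.rank → Kˣ) (r : Fin Cfsg.Lie.chevD4.nroots) :
    CfsgLib.Chev.chevD4.toSys.chi (CfsgLib.Chev.chevD4.coHom K d) r =
      d (ix 0) ^ Cfsg.Lie.chevD4.cartan 0 r.val * d (ix 1) ^ Cfsg.Lie.chevD4.cartan 1 r.val *
        d (ix 2) ^ Cfsg.Lie.chevD4.cartan 2 r.val * d (ix 3) ^ Cfsg.Lie.chevD4.cartan 3 r.val := by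
  rw [CfsgLib.Chev.chevD4.coHom_apply]
  have : ∀ f : Fin Cfsg.Lie.chevD4.rank → (Fin Cfsg.Lie.chevD4.rank → Kˣ),
      ∏ k, f k = f (ix 0) * f (ix 1) * f (ix 2) * f (ix 3) := fun f => Fin.prod_univ_four f
  rw [this, Sys.chi_mul, Sys.chi_mul, Sys.chi_mul, Alg.chi_cartanChar, Alg.chi_cartanChar, Alg.chi_cartanChar,
    Alg.chi_cartanChar, ← cartan_val, ← cartan_val, ← cartan_val, ← cartan_val]

/-- The weights of a torus element. -/
noncomputable def wt (d : Fin Cfsg.Lie.chevD4.rank → Kˣ) (r : Fin Cfsg.Lie.chevD4.nroots) : Kˣ :=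
  CfsgLib.Chev.chevD4.toSys.chi (CfsgLib.Chev.chevD4.coHom K d) r

theorem tor_Y (d : Fin Cfsg.Lie.chevD4.rank → Kˣ) (r : Fin Cfsg.Lie.chevD4.nroots) (t : K) :
    Tw.tor (Φ := CfsgLib.Chev.chevD4) d * Y r t = Y r ((wt d r : K) * t) * Tw.tor (Φ := CfsgLib.Chev.chevD4) d :=
  CfsgLib.Chev.chevD4.toAlg.torus_xg _ r t

include hq hK in
theorem wt_rho {d : Fin Cfsg.Lie.chevD4.rank → Kˣ} (hd : (tw hq hK).dmap d = d)
    (r s : Fin Cfsg.Lie.chevD4.nroots) (h : symD4.mor.ρ r.val = s.val) :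
    (wt d s : K) = frob hq hK (wt d r : K) := by
  have e : S.ρ r = s := Fin.ext (by rw [(setup hq hK (frob_apply hq hK)).rho, h])
  rw [wt, wt, ← e, chi_rho hq hK hd, Units.val_pow_eq_pow_val, frob_apply]

variable {d : Fin Cfsg.Lie.chevD4.rank → Kˣ} (hd : (tw hq hK).dmap d = d)

include hd in
theorem wt_mem (r : Fin Cfsg.Lie.chevD4.nroots) (hr : symD4.mor.ρ r.val = r.val) : (wt d r : K) ∈ FF hq hK :=
  (wt_rho hq hK hd r r hr).symm

theorem hT_xb (s : ↥(FF hq hK)) : hT hq hK d hd * xb hq hK s =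
    xb hq hK (⟨_, wt_mem hq hK hd (rt 14) (by decide +kernel)⟩ * s) * hT hq hK d hd :=
  Subtype.ext (by simp only [Subgroup.coe_mul, xb_val, Subfield.coe_mul]; exact tor_Y d (rt 14) _)

theorem hT_x9 (s : ↥(FF hq hK)) : hT hq hK d hd * x9 hq hK s =
    x9 hq hK (⟨_, wt_mem hq hK hd (rt 22) (by decide +kernel)⟩ * s) * hT hq hK d hd :=
  Subtype.ext (by simp only [Subgroup.coe_mul, x9_val, Subfield.coe_mul]; exact tor_Y d (rt 22) _)

theorem hT_x10 (s : ↥(FF hq hK)) : hT hq hK d hd * x10 hq hK s =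
    x10 hq hK (⟨_, wt_mem hq hK hd (rt 23) (by decide +kernel)⟩ * s) * hT hq hK d hd :=
  Subtype.ext (by simp only [Subgroup.coe_mul, x10_val, Subfield.coe_mul]; exact tor_Y d (rt 23) _)

theorem hT_x8 (t : K) : hT hq hK d hd * x8 hq hK t = x8 hq hK ((wt d (rt 17) : K) * t) * hT hq hK d hd :=
  Subtype.ext (by
    simp only [Subgroup.coe_mul, x8_val]
    show Tw.tor (Φ := CfsgLib.Chev.chevD4) d * _ = _ * Tw.tor (Φ := CfsgLib.Chev.chevD4) d
    rw [← mul_assoc, ← mul_assoc, tor_Y, mul_assoc (Y _ _) _ (Y (rt 20) _), tor_Y, ← mul_assoc,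
      mul_assoc _ _ (Y (rt 21) _), tor_Y, ← mul_assoc, map_mul, map_mul,
      wt_rho hq hK hd (rt 20) (rt 21) (by decide +kernel), wt_rho hq hK hd (rt 17) (rt 20) (by decide +kernel),
      mul_neg, mul_neg])

theorem hT_x7 (t : K) : hT hq hK d hd * x7 hq hK t = x7 hq hK ((wt d (rt 15) : K) * t) * hT hq hK d hd :=
  Subtype.ext (by
    simp only [Subgroup.coe_mul, x7_val]
    show Tw.tor (Φ := CfsgLib.Chev.chevD4) d * _ = _ * Tw.tor (Φ := CfsgLib.Chev.chevD4) d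
    rw [← mul_assoc, ← mul_assoc, tor_Y, mul_assoc (Y _ _) _ (Y (rt 19) _), tor_Y, ← mul_assoc,
      mul_assoc _ _ (Y (rt 16) _), tor_Y, ← mul_assoc, map_mul, map_mul,
      wt_rho hq hK hd (rt 19) (rt 16) (by decide +kernel), wt_rho hq hK hd (rt 15) (rt 19) (by decide +kernel),
      mul_neg])

/-- Interchanging two root elements in characteristic two. -/
theorem Y_two (h2 : (2 : K) = 0) {r s w : Fin Cfsg.Lie.chevD4.nroots} (hneg : s.val ≠ Cfsg.Lie.chevD4.neg r.val)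
    (hne : s ≠ r) (c : ℤ) (hc : c = 1 ∨ c = -1)
    (h : Cfsg.Lie.chevD4.commTerms r.val s.val = [(w.val, c, 1, 1)]) :
    Y s (1 : K) * Y r 1 = Y r 1 * Y s 1 * Y w 1 := by
  have hn : (-1 : K) = 1 := by rw [neg_eq_iff_add_eq_zero, one_add_one_eq_two, h2]
  rw [Y_swap hneg hne c h]
  rcases hc with rfl | rfl <;> simp [hn]

include hq hK in
theorem xb_xa_two (h2 : (2 : K) = 0) : xb hq hK 1 * xa hq hK 1 =
    xa hq hK 1 * xb hq hK 1 * x7 hq hK 1 * x8 hq hK 1 * x9 hq hK 1 * x10 hq hK 1 := by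
  have hn : (-1 : K) = 1 := by rw [neg_eq_iff_add_eq_zero, one_add_one_eq_two, h2]
  refine Subtype.ext ?_
  simp only [Subgroup.coe_mul, xb_val, xa_val, x7_val, x8_val, x9_val, x10_val, map_one, hn, Subfield.coe_one]
  set g : ℕ → GL Cfsg.Lie.chevD4.Idx K := fun n =>
    if h : n < Cfsg.Lie.chevD4.nroots then Y ⟨n, h⟩ (1 : K) else 1 with hg
  have hY : ∀ r : Fin Cfsg.Lie.chevD4.nroots, Y r (1 : K) = g r.val := fun r => by simp [hg, r.2]
  simp only [hY]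
  have sw : ∀ r s w : Fin Cfsg.Lie.chevD4.nroots, ∀ c : ℤ, s.val ≠ Cfsg.Lie.chevD4.neg r.val → s ≠ r →
      (c = 1 ∨ c = -1) → Cfsg.Lie.chevD4.commTerms r.val s.val = [(w.val, c, 1, 1)] →
      ∀ X, g s.val * (g r.val * X) = g r.val * (g s.val * (g w.val * X)) := fun r s w c h h' hc h'' X => by
    rw [← hY, ← hY, ← hY, ← mul_assoc, Y_two h2 h h' c hc h'']
    simp only [mul_assoc]
  have cm : ∀ r s : Fin Cfsg.Lie.chevD4.nroots, s.val ≠ Cfsg.Lie.chevD4.neg r.val → s ≠ r →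
      Cfsg.Lie.chevD4.commTerms r.val s.val = [] →
      ∀ X, g s.val * (g r.val * X) = g r.val * (g s.val * X) := fun r s h h' h'' X => by
    rw [← hY, ← hY, ← mul_assoc, ← (Y_comm h h' h'' (1 : K) 1).eq, mul_assoc]
  have e1 := sw (rt 18) (rt 14) (rt 19) (-1) (by decide +kernel) (by decide) (Or.inr rfl) (by decide +kernel)
  have e2 := sw (rt 13) (rt 19) (rt 21) 1 (by decide +kernel) (by decide) (Or.inl rfl) (by decide +kernel)
  have e3 := sw (rt 13) (rt 14) (rt 16) 1 (by decide +kernel) (by decide) (Or.inl rfl) (by decide +kernel)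
  have e4 := sw (rt 12) (rt 21) (rt 22) 1 (by decide +kernel) (by decide) (Or.inl rfl) (by decide +kernel)
  have e5 := sw (rt 12) (rt 19) (rt 20) 1 (by decide +kernel) (by decide) (Or.inl rfl) (by decide +kernel)
  have e6 := sw (rt 12) (rt 16) (rt 17) 1 (by decide +kernel) (by decide) (Or.inl rfl) (by decide +kernel)
  have e7 := sw (rt 12) (rt 14) (rt 15) 1 (by decide +kernel) (by decide) (Or.inl rfl) (by decide +kernel)
  have e8 := sw (rt 19) (rt 17) (rt 23) (-1) (by decide +kernel) (by decide) (Or.inr rfl) (by decide +kernel)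
  have f1 := cm (rt 19) (rt 16) (by decide +kernel) (by decide) (by decide +kernel)
  have f2 := cm (rt 20) (rt 23) (by decide +kernel) (by decide) (by decide +kernel)
  have f3 := cm (rt 21) (rt 23) (by decide +kernel) (by decide) (by decide +kernel)
  have f4 := cm (rt 22) (rt 23) (by decide +kernel) (by decide) (by decide +kernel)
  simp only [mul_assoc]
  calc g 14 * (g 18 * (g 13 * g 12))
      = g 14 * (g 18 * (g 13 * (g 12 * 1))) := by rw [mul_one]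
    _ = g 18 * (g 14 * (g 19 * (g 13 * (g 12 * 1)))) := e1 _
    _ = g 18 * (g 14 * (g 13 * (g 19 * (g 21 * (g 12 * 1))))) := by rw [e2]
    _ = g 18 * (g 13 * (g 14 * (g 16 * (g 19 * (g 21 * (g 12 * 1)))))) := by rw [e3]
    _ = g 18 * (g 13 * (g 14 * (g 16 * (g 19 * (g 12 * (g 21 * (g 22 * 1))))))) := by rw [e4]
    _ = g 18 * (g 13 * (g 14 * (g 16 * (g 12 * (g 19 * (g 20 * (g 21 * (g 22 * 1)))))))) := by rw [e5]
    _ = g 18 * (g 13 * (g 14 * (g 12 * (g 16 * (g 17 * (g 19 * (g 20 * (g 21 * (g 22 * 1))))))))) := by rw [e6]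
    _ = g 18 * (g 13 * (g 12 * (g 14 * (g 15 * (g 16 * (g 17 * (g 19 * (g 20 * (g 21 * (g 22 * 1)))))))))) := by
        rw [e7]
    _ = g 18 * (g 13 * (g 12 * (g 14 * (g 15 * (g 16 * (g 19 * (g 17 * (g 23 * (g 20 * (g 21 * (g 22 * 1))))))))))) := by
        rw [e8]
    _ = g 18 * (g 13 * (g 12 * (g 14 * (g 15 * (g 19 * (g 16 * (g 17 * (g 20 * (g 21 * (g 22 * (g 23 * 1))))))))))) := by
        rw [f1, f2, f3, f4]
    _ = _ := by simp only [mul_one]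

end CfsgLib.D4Deg
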