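import Cfsg.Agent.Lib.D4Deg.Count
import Cfsg.Agent.Lib.Chev.Twist.SimpleD4

/-! The minimal degree of ³D₄. -/

set_option autoImplicit false
set_option linter.unusedSectionVars false
set_option linter.unusedVariables false
set_option linter.style.haveILetI false

namespace CfsgLib.D4Deg

open Cfsg.Lie CfsgLib.Chev CfsgLib.Chev.Chev CfsgLib.Chev.T3D4 CfsgLib.OrthDeg CfsgLib.G2Deg

variable {K : Type*} [Field K] [Fintype K] {q : ℕ} (hq : IsPrimePow q) (hK : Fintype.card K = q ^ 3)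
  {k : ℕ} (ρ : Representation ℂ (GG K q) (Fin k → ℂ)) (hρ : ρ.IsIrreducible) (hk : 2 ≤ k)

include hq hK hρ hk in
theorem faithful {g : GG K q} (hg : ρ g = 1) : g = 1 := by
  haveI := (T3D4.simple hq hK).1
  rcases IsSimpleGroup.eq_bot_or_eq_top_of_normal (MonoidHom.ker ρ) inferInstance with h | h
  · rw [← Subgroup.mem_bot, ← h]
    exact hg
  · exfalso
    have hall : ∀ x, ρ x = 1 := fun x => MonoidHom.mem_ker.1 (h ▸ Subgroup.mem_top x)
    haveI := hρ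
    haveI : Fintype (GG K q) := Fintype.ofFinite _
    have h1 := CfsgLib.CharTheory.degree_dvd_index_of_scalar ρ ⊤ fun z _ => ⟨1, by rw [hall, one_smul]; rfl⟩
    rw [Subgroup.index_top, Module.finrank_fintype_fun_eq_card, Fintype.card_fin] at h1
    have := Nat.le_of_dvd one_pos h1
    omega

include hq hK hρ in
theorem dvd_order : k ∣ q ^ 12 * (q ^ 2 - 1) * (q ^ 6 - 1) * (q ^ 8 + q ^ 4 + 1) := by
  haveI := hρ
  haveI : Fintype (GG K q) := Fintype.ofFinite _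
  have h1 := CfsgLib.CharTheory.degree_dvd_index_of_scalar ρ ⊥ fun z hz => ⟨1, by
    rw [Subgroup.mem_bot.1 hz, map_one, one_smul]; rfl⟩
  rw [Subgroup.index_bot, Module.finrank_fintype_fun_eq_card, Fintype.card_fin, T3D4.card_G hq hK] at h1
  exact h1

/-- A nontrivially acting subgroup has a nontrivial character. -/
theorem exists_mult_ne {G A : Type*} [Group G] [AddCommGroup A] [Fintype A] (f : A → G)
    (σ : Representation ℂ G (Fin k → ℂ)) (hf : ∀ S T, f (S + T) = f S * f T) (S : A) (h : σ (f S) ≠ 1) :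
    ∃ χ : AddChar A ℂ, χ ≠ 1 ∧ mult f σ χ ≠ 0 := by
  classical
  by_contra hc
  have hp : ∀ χ : AddChar A ℂ, χ ≠ 1 → CfsgLib.RadicalBound.proj f σ χ = 0 := fun χ hχ =>
    LinearMap.range_eq_bot.1 (Submodule.finrank_eq_zero.1 (by_contra fun hm => hc ⟨χ, hχ, hm⟩))
  have e1 : CfsgLib.RadicalBound.proj f σ 1 = 1 := by
    refine Eq.trans ?_ (sum_proj f σ hf)
    rw [Finset.sum_eq_single (1 : AddChar A ℂ) (fun χ _ hχ => hp χ hχ) (by simp)]
  refine h ?_
  rw [rho_eq f σ hf S, Finset.sum_eq_single (1 : AddChar A ℂ) (fun χ _ hχ => by rw [hp χ hχ, smul_zero])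
    (by simp), AddChar.one_apply, one_smul, e1]

include hρ hk in
theorem exists_top : ∃ c : AddChar ↥(FF hq hK) ℂ, c ≠ 1 ∧ 0 < MA hq hK ρ 1 1 c := by
  classical
  have hne : x10 hq hK 1 ≠ 1 := fun e => one_ne_zero (α := K)
    (CfsgLib.Chev.chevD4.toAlg.xg_injective (T3D4.rt 23) (by
      have h := congrArg (fun g : GG K q => (g : GL Cfsg.Lie.chevD4.Idx K)) e
      simp only [x10_val, Subfield.coe_one, Subgroup.coe_one] at h
      rw [Alg.xg_zero]
      exact h))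
  obtain ⟨χ, hχ, hm⟩ := exists_mult_ne (x10 hq hK) ρ (x10_add hq hK) 1
    fun h => hne (faithful hq hK ρ hρ hk h)
  refine ⟨χ, hχ, Nat.pos_of_ne_zero fun h0 => hm ?_⟩
  have e := mult10 hq hK ρ 1 one_ne_zero χ
  rw [show (fun r => x10 hq hK (1 * r)) = x10 hq hK from funext fun r => by rw [one_mul]] at e
  rw [e, show χ.compAddMonoidHom (AddMonoidHom.mulLeft (1 : ↥(FF hq hK))⁻¹) = χ by ext r; simp]
  exact Finset.sum_eq_zero fun b _ => Finset.sum_eq_zero fun a _ => by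
    rw [MA_const hq hK ρ hχ hχ (a' := 1) (b' := 1), h0]

/-- The common multiplicity. -/
noncomputable def mm (c : AddChar ↥(FF hq hK) ℂ) : ℕ := MA hq hK ρ 1 1 c

include hK in
theorem card_K_chars : Fintype.card (AddChar K ℂ) = q ^ 3 := by
  rw [AddChar.card_eq, hK]

include hq hK in
theorem card_F_chars : Fintype.card (AddChar ↥(FF hq hK) ℂ) = q := by
  rw [AddChar.card_eq, card_FF hq hK]

theorem MA_three {c : AddChar ↥(FF hq hK) ℂ} (hc : c ≠ 1) {b : AddChar ↥(FF hq hK) ℂ} (hb : b ≠ 1) :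
    MA hq hK ρ 1 b 1 = mm hq hK ρ c := by
  classical
  obtain ⟨e, he, h⟩ := nB_x9 hq hK
  have h10 : ∀ S T : ↥(FF hq hK), x10 hq hK (e * (S + T)) = x10 hq hK (e * S) * x10 hq hK (e * T) :=
    fun S T => by rw [mul_add, x10_add]
  have e1 := mult_transfer (x9 hq hK) (fun r => x10 hq hK (e * r)) ρ (x9_add hq hK) h10 _ h b
  have hb' : b.compAddMonoidHom (AddMonoidHom.mulLeft e⁻¹) ≠ 1 := fun hh => hb (by
    ext r
    have := DFunLike.congr_fun hh (e * r)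
    simpa [he] using this)
  rw [mult9, mult10 hq hK ρ e he,
    Finset.sum_congr rfl fun (b' : AddChar ↥(FF hq hK) ℂ) _ => Finset.sum_congr rfl
      fun (a : AddChar K ℂ) _ => MA_const hq hK ρ hb' hc (a' := 1) (b' := 1),
    ← Finset.add_sum_erase _ _ (Finset.mem_univ (1 : AddChar ↥(FF hq hK) ℂ)),
    Finset.sum_congr rfl fun (a : AddChar K ℂ) _ => MA_mid hq hK ρ (a := a) (c := 1) hb,
    Finset.sum_congr rfl fun (c' : AddChar ↥(FF hq hK) ℂ) hc' => Finset.sum_congr rfl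
      fun (a : AddChar K ℂ) _ => MA_const hq hK ρ (a := a) (b := b) (Finset.mem_erase.1 hc').1 hc (a' := 1) (b' := 1)] at e1
  simp only [Finset.sum_const, Finset.card_univ, smul_eq_mul, Finset.card_erase_of_mem (Finset.mem_univ _),
    card_F_chars hq hK, card_K_chars hK] at e1
  rw [mm]
  have hq1 := hq.one_lt
  have hq0 : 0 < q := by omega
  obtain ⟨p, rfl⟩ : ∃ p, q = p + 1 := ⟨q - 1, by omega⟩
  rw [Nat.add_sub_cancel, add_mul p 1, one_mul, add_comm] at e1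
  exact Nat.eq_of_mul_eq_mul_left (pow_pos hq0 3) (Nat.add_left_cancel e1)

/-- The dimension of the common fixed space of the two highest long roots. -/
noncomputable def RR : ℕ := ∑ a : AddChar K ℂ, MA hq hK ρ a 1 1

theorem degree_eq {c : AddChar ↥(FF hq hK) ℂ} (hc : c ≠ 1) :
    k = (q - 1) * q ^ 4 * mm hq hK ρ c + (q - 1) * q ^ 3 * mm hq hK ρ c + RR hq hK ρ := by
  classical
  conv_lhs => rw [← sum_MA hq hK ρ]
  rw [← Finset.add_sum_erase _ _ (Finset.mem_univ (1 : AddChar ↥(FF hq hK) ℂ)),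
    ← Finset.add_sum_erase _ _ (Finset.mem_univ (1 : AddChar ↥(FF hq hK) ℂ)),
    Finset.sum_congr rfl fun (b : AddChar ↥(FF hq hK) ℂ) hb => Finset.sum_congr rfl fun (a : AddChar K ℂ) _ =>
      (MA_mid hq hK ρ (a := a) (c := 1) (Finset.mem_erase.1 hb).1).trans (MA_three hq hK ρ hc (Finset.mem_erase.1 hb).1),
    Finset.sum_congr rfl fun (c' : AddChar ↥(FF hq hK) ℂ) hc' => Finset.sum_congr rfl
      fun (b : AddChar ↥(FF hq hK) ℂ) _ => Finset.sum_congr rfl fun (a : AddChar K ℂ) _ =>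
        MA_const hq hK ρ (a := a) (b := b) (Finset.mem_erase.1 hc').1 hc (a' := 1) (b' := 1)]
  simp only [Finset.sum_const, Finset.card_univ, smul_eq_mul, Finset.card_erase_of_mem (Finset.mem_univ _),
    card_F_chars hq hK, card_K_chars hK]
  rw [RR, mm]
  ring

/-- The two highest long roots together. -/
noncomputable def fZ (S : ↥(FF hq hK) × ↥(FF hq hK)) : GG K q := x9 hq hK S.1 * x10 hq hK S.2

theorem fZ_add (S T : ↥(FF hq hK) × ↥(FF hq hK)) : fZ hq hK (S + T) = fZ hq hK S * fZ hq hK T := by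
  rw [fZ, fZ, fZ, Prod.fst_add, Prod.snd_add, x9_add, x10_add]
  simp only [mul_assoc]
  rw [← mul_assoc (x9 hq hK T.1), (c9_10 hq hK T.1 S.2).eq]
  simp only [mul_assoc]

theorem RR_eq : RR hq hK ρ = mult (fZ hq hK) ρ 1 := by
  classical
  let ι : ↥(FF hq hK) × ↥(FF hq hK) →+ AA hq hK := AddMonoidHom.inr K (↥(FF hq hK) × ↥(FF hq hK))
  have e : fZ hq hK = fA hq hK ∘ ι := funext fun S => by
    show x9 hq hK S.1 * x10 hq hK S.2 = x8 hq hK 0 * x9 hq hK S.1 * x10 hq hK S.2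
    have h8 : x8 hq hK 0 = 1 := by have := x8_add hq hK 0 0; rwa [add_zero, left_eq_mul] at this
    rw [h8, one_mul]
  rw [e, marginal (fA hq hK) ρ (fA_add hq hK) ι, Finset.sum_filter,
    ← (chE K ↥(FF hq hK) ↥(FF hq hK)).sum_comp]
  have key : ∀ x : AddChar K ℂ × AddChar ↥(FF hq hK) ℂ × AddChar ↥(FF hq hK) ℂ,
      ((chE K ↥(FF hq hK) ↥(FF hq hK) x).compAddMonoidHom ι = 1) = (x.2 = (1, 1)) := fun x => by
    rw [eq_iff_iff]
    constructor
    · intro h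
      refine Prod.ext ?_ ?_
      · ext r
        have := DFunLike.congr_fun h (r, 0)
        simpa [ι, chE, ch_apply] using this
      · ext r
        have := DFunLike.congr_fun h (0, r)
        simpa [ι, chE, ch_apply] using this
    · intro h
      ext S
      show ch x.1 x.2.1 x.2.2 (0, S.1, S.2) = 1
      rw [ch_apply, h, AddChar.map_zero_eq_one, AddChar.one_apply, AddChar.one_apply, one_mul, one_mul]
  simp only [key]
  rw [Fintype.sum_prod_type]
  refine Finset.sum_congr rfl fun a _ => ?_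
  rw [Finset.sum_ite_eq' Finset.univ, if_pos (Finset.mem_univ _)]
  rfl

/-- Independent vectors fixed by the two highest long roots. -/
theorem card_le_RR {ι : Type*} [Fintype ι] (χ : ι → AddChar ↥(FF hq hK) ℂ) (hχ : Function.Injective χ)
    (w : ι → Fin k → ℂ) (hw : ∀ i, w i ≠ 0) (h9 : ∀ i r, ρ (x9 hq hK r) (w i) = w i)
    (h10 : ∀ i r, ρ (x10 hq hK r) (w i) = w i) (hb : ∀ i s, ρ (xb hq hK s) (w i) = χ i s • w i) :
    Fintype.card ι ≤ RR hq hK ρ := by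
  classical
  rw [RR_eq]
  have hli : LinearIndependent ℂ w := by
    refine Fintype.linearIndependent_iff.2 fun g hg i => ?_
    have e := congrArg (CfsgLib.RadicalBound.proj (xb hq hK) ρ (χ i)) hg
    rw [map_sum, map_zero, Finset.sum_eq_single i (fun j _ hj => ?_) (by simp)] at e
    · rw [map_smul, CfsgLib.RadicalBound.proj_eigen (xb hq hK) ρ (χ i) (χ i) (hb i), if_pos rfl] at e
      exact (smul_eq_zero.1 e).resolve_right (hw i)
    · rw [map_smul, CfsgLib.RadicalBound.proj_eigen (xb hq hK) ρ (χ i) (χ j) (hb j),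
        if_neg (fun h => hj (hχ h.symm)), smul_zero]
  rw [← finrank_span_eq_card hli]
  refine Submodule.finrank_mono (Submodule.span_le.2 ?_)
  rintro _ ⟨i, rfl⟩
  refine (mem_range_iff (fZ hq hK) ρ (fZ_add hq hK) 1 (w i)).2 fun S => ?_
  rw [fZ, map_mul, Module.End.mul_apply, h10, h9, AddChar.one_apply, one_smul]

include hq hK in
theorem exists_norm (hq2 : 2 < q) : ∃ t : Kˣ, t ^ (q ^ 2 + q + 1) ≠ 1 := by
  obtain ⟨g, hg⟩ := IsCyclic.exists_generator (α := Kˣ)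
  refine ⟨g, fun h => ?_⟩
  have h1 : orderOf g = Fintype.card K - 1 := by
    rw [orderOf_eq_card_of_forall_mem_zpowers hg, Nat.card_units, Nat.card_eq_fintype_card]
  have h2 := Nat.le_of_dvd (by positivity) (orderOf_dvd_of_pow_eq_one h)
  rw [h1, hK] at h2
  have h3 : 3 * q ^ 2 ≤ q ^ 3 := by nlinarith
  have h4 : 3 * q ≤ q ^ 2 := by nlinarith
  omega

/-- The torus parameters of a field element. -/
def dn (q : ℕ) (t : Kˣ) : Fin Cfsg.Lie.chevD4.rank → Kˣ := vec4 t (t ^ (q ^ 2 + q + 1)) (t ^ q) ((t ^ q) ^ q)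

include hq hK in
theorem dn_stable (t : Kˣ) : (tw hq hK).dmap (dn q t) = dn q t := by
  refine (stable_iff hq hK _).mpr ⟨?_, rfl, rfl⟩
  show (t ^ (q ^ 2 + q + 1)) ^ q = t ^ (q ^ 2 + q + 1)
  refine Units.ext ?_
  simp only [Units.val_pow_eq_pow_val]
  rw [← pow_mul, show (q ^ 2 + q + 1) * q = q ^ 3 + (q ^ 2 + q) by ring, pow_add, ← hK,
    FiniteField.pow_card, pow_succ _ (q ^ 2 + q), mul_comm]

theorem dn_wt14 (t : Kˣ) : wt (dn q t) (T3D4.rt 14) = t ^ (q ^ 2 + q + 1) := by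
  rw [wt, chi_coHom, show Cfsg.Lie.chevD4.cartan 0 (T3D4.rt 14).val = -1 by decide +kernel,
    show Cfsg.Lie.chevD4.cartan 1 (T3D4.rt 14).val = 2 by decide +kernel,
    show Cfsg.Lie.chevD4.cartan 2 (T3D4.rt 14).val = -1 by decide +kernel,
    show Cfsg.Lie.chevD4.cartan 3 (T3D4.rt 14).val = -1 by decide +kernel]
  show t ^ (-1 : ℤ) * (t ^ (q ^ 2 + q + 1)) ^ (2 : ℤ) * (t ^ q) ^ (-1 : ℤ) * ((t ^ q) ^ q) ^ (-1 : ℤ) = _
  simp only [← zpow_natCast, ← zpow_mul, ← zpow_add]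
  congr 1
  push_cast
  ring

theorem dn_wt22 (t : Kˣ) : wt (dn q t) (T3D4.rt 22) = 1 := by
  rw [wt, chi_coHom, show Cfsg.Lie.chevD4.cartan 0 (T3D4.rt 22).val = 1 by decide +kernel,
    show Cfsg.Lie.chevD4.cartan 1 (T3D4.rt 22).val = -1 by decide +kernel,
    show Cfsg.Lie.chevD4.cartan 2 (T3D4.rt 22).val = 1 by decide +kernel,
    show Cfsg.Lie.chevD4.cartan 3 (T3D4.rt 22).val = 1 by decide +kernel]
  show t ^ (1 : ℤ) * (t ^ (q ^ 2 + q + 1)) ^ (-1 : ℤ) * (t ^ q) ^ (1 : ℤ) * ((t ^ q) ^ q) ^ (1 : ℤ) = _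
  simp only [← zpow_natCast, ← zpow_mul, ← zpow_add]
  refine (congrArg (t ^ ·) ?_).trans (zpow_zero t)
  push_cast
  ring

theorem dn_wt15 (t : Kˣ) : wt (dn q t) (T3D4.rt 15) =
    t ^ (q ^ 2 + q + 1) * (t ^ (1 : ℤ))⁻¹ * (t ^ q)⁻¹ * (t ^ q) ^ q := by
  rw [wt, chi_coHom, show Cfsg.Lie.chevD4.cartan 0 (T3D4.rt 15).val = -1 by decide +kernel,
    show Cfsg.Lie.chevD4.cartan 1 (T3D4.rt 15).val = 1 by decide +kernel,
    show Cfsg.Lie.chevD4.cartan 2 (T3D4.rt 15).val = -1 by decide +kernel,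
    show Cfsg.Lie.chevD4.cartan 3 (T3D4.rt 15).val = 1 by decide +kernel]
  show t ^ (-1 : ℤ) * (t ^ (q ^ 2 + q + 1)) ^ (1 : ℤ) * (t ^ q) ^ (-1 : ℤ) * ((t ^ q) ^ q) ^ (1 : ℤ) = _
  rw [zpow_neg_one, zpow_one, zpow_neg_one, zpow_one, zpow_one, mul_comm t⁻¹]

section One

variable {b : AddChar ↥(FF hq hK) ℂ} (h1 : MA hq hK ρ 1 b 1 = 1)

theorem scT_fix (t : Kˣ) (S : AA hq hK) : ch 1 b 1 (scT hq hK (dn_stable hq hK t) S) = ch 1 b 1 S := by
  rw [scT_apply, ch_apply, ch_apply]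
  simp only [AddChar.one_apply]
  congr 2
  refine congrArg b (Subtype.ext ?_)
  show (wt (dn q t) (T3D4.rt 22) : K) * (S.2.1 : K) = _
  rw [dn_wt22, Units.val_one, one_mul]

theorem shB_fix (s : ↥(FF hq hK)) (S : AA hq hK) : ch 1 b 1 (shB hq hK s S) = ch 1 b 1 S := by
  show ch 1 b 1 (S.1, S.2.1, s * S.2.1 + S.2.2) = _
  simp [ch_apply]

theorem sh7_fix (t : K) (S : AA hq hK) : ch 1 b 1 (sh7 hq hK t S) = ch 1 b 1 S := by
  show ch 1 b 1 (S.1, S.2.1, _ + S.2.2) = _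
  simp [ch_apply]

include h1 in
theorem exists_vec : ∃ v : Fin k → ℂ, v ≠ 0 ∧ (∀ u, ρ (x8 hq hK u) v = v) ∧
    (∀ r, ρ (x9 hq hK r) v = b r • v) ∧ (∀ r, ρ (x10 hq hK r) v = v) ∧
    CfsgLib.RadicalBound.proj (fA hq hK) ρ (ch 1 b 1) v = v := by
  classical
  obtain ⟨v, hv0, hv⟩ := exists_eigen (fA hq hK) ρ (fA_add hq hK) (χ := ch (1 : AddChar K ℂ) b 1)
    (by rw [show mult _ ρ _ = MA hq hK ρ 1 b 1 from rfl, h1]; exact one_ne_zero)
  have h8 : x8 hq hK 0 = 1 := by have := x8_add hq hK 0 0; rwa [add_zero, left_eq_mul] at this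
  have h9 : x9 hq hK 0 = 1 := by have := x9_add hq hK 0 0; rwa [add_zero, left_eq_mul] at this
  have h10 : x10 hq hK 0 = 1 := by have := x10_add hq hK 0 0; rwa [add_zero, left_eq_mul] at this
  refine ⟨v, hv0, fun u => ?_, fun r => ?_, fun r => ?_, ?_⟩
  · have := hv (u, 0, 0)
    simpa [fA, h9, h10, ch_apply] using this
  · have := hv (0, r, 0)
    simpa [fA, h8, h10, ch_apply] using this
  · have := hv (0, 0, r)
    simpa [fA, h8, h9, ch_apply] using this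
  · rw [CfsgLib.RadicalBound.proj_eigen (fA hq hK) ρ _ _ hv, if_pos rfl]

include h1 in
theorem xb_fix_large {t : Kˣ} (ht : t ^ (q ^ 2 + q + 1) ≠ 1) {v : Fin k → ℂ}
    (hv : CfsgLib.RadicalBound.proj (fA hq hK) ρ (ch 1 b 1) v = v) (s : ↥(FF hq hK)) :
    ρ (xb hq hK s) v = v := by
  have hd := dn_stable hq hK t
  set N : ↥(FF hq hK) := ⟨_, wt_mem hq hK hd (T3D4.rt 14) (by decide +kernel)⟩ with hN
  have hN1 : N - 1 ≠ 0 := fun h => ht (Units.ext (by
    rw [← dn_wt14]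
    exact congrArg Subtype.val (sub_eq_zero.1 h)))
  have := fix_of_scaled (fA hq hK) ρ (fA_add hq hK) (xb hq hK) (xb_add hq hK) (fun r => N * r)
    (fun y => ⟨(N - 1)⁻¹ * y, by
      show N * ((N - 1)⁻¹ * y) - (N - 1)⁻¹ * y = y
      rw [← sub_one_mul, mul_inv_cancel_left₀ hN1]⟩)
    (shB hq hK) (xb_fA hq hK) (hT hq hK (dn q t) hd) (scT hq hK hd) (hT_fA hq hK hd) (hT_xb hq hK hd)
    (ch 1 b 1) (shB_fix hq hK) (scT_fix hq hK t) h1 s
  rw [← hv, ← Module.End.mul_apply, this]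

include h1 in
theorem x7_fix_two (hq2 : q = 2) {v : Fin k → ℂ}
    (hv : CfsgLib.RadicalBound.proj (fA hq hK) ρ (ch 1 b 1) v = v) (u : K) :
    ρ (x7 hq hK u) v = v := by
  obtain ⟨g, hg⟩ := IsCyclic.exists_generator (α := Kˣ)
  have hd := dn_stable hq hK g
  have ho : orderOf g = 7 := by
    rw [orderOf_eq_card_of_forall_mem_zpowers hg, Nat.card_units, Nat.card_eq_fintype_card, hK, hq2]
    norm_num
  have hw : (wt (dn q g) (T3D4.rt 15) : K) - 1 ≠ 0 := fun h => by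
    have e : wt (dn q g) (T3D4.rt 15) = 1 := Units.ext (sub_eq_zero.1 h)
    rw [dn_wt15, hq2] at e
    have h7 : g ^ 7 = 1 := ho ▸ pow_orderOf_eq_one g
    have e' : g = 1 := by
      calc g = g ^ (2 ^ 2 + 2 + 1) * (g ^ (1 : ℤ))⁻¹ * (g ^ 2)⁻¹ * (g ^ 2) ^ 2 := by
            rw [zpow_one, show (2 ^ 2 + 2 + 1 : ℕ) = 7 from rfl, h7]; group
        _ = 1 := e
    rw [e', orderOf_one] at ho
    omega
  have := fix_of_scaled (fA hq hK) ρ (fA_add hq hK) (x7 hq hK) (x7_add hq hK)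
    (fun r => (wt (dn q g) (T3D4.rt 15) : K) * r)
    (fun y => ⟨((wt (dn q g) (T3D4.rt 15) : K) - 1)⁻¹ * y, by
      show _ * (_ * y) - _ * y = y
      rw [← sub_one_mul, mul_inv_cancel_left₀ hw]⟩)
    (sh7 hq hK) (x7_fA hq hK) (hT hq hK (dn q g) hd) (scT hq hK hd) (hT_fA hq hK hd) (hT_x7 hq hK hd)
    (ch 1 b 1) (sh7_fix hq hK) (scT_fix hq hK g) h1 u
  rw [← hv, ← Module.End.mul_apply, this]

end One

theorem fixed_image {x : GG K q} {X X' : ↥(FF hq hK) → GG K q} {e : ↥(FF hq hK)} (he : e ≠ 0)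
    (h : ∀ s, x * X s = X' (e * s) * x) {v : Fin k → ℂ} {φ : ↥(FF hq hK) → ℂ} (hv : ∀ s, ρ (X s) v = φ s • v)
    (r : ↥(FF hq hK)) : ρ (X' r) (ρ x v) = φ (e⁻¹ * r) • ρ x v := by
  have := h (e⁻¹ * r)
  rw [← mul_assoc, mul_inv_cancel₀ he, one_mul] at this
  rw [← Module.End.mul_apply, ← map_mul, ← this, map_mul, Module.End.mul_apply, hv, map_smul]

include hρ hk in
theorem RR_ge {c : AddChar ↥(FF hq hK) ℂ} (hc : c ≠ 1) (hm : mm hq hK ρ c = 1) : q - 1 ≤ RR hq hK ρ := by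
  classical
  have hone : ∀ b : {b : AddChar ↥(FF hq hK) ℂ // b ≠ 1}, MA hq hK ρ 1 b.1 1 = 1 := fun b => by
    rw [MA_three hq hK ρ hc b.2, hm]
  choose v hv0 hv8 hv9 hv10 hvp using fun b => exists_vec hq hK ρ (hone b)
  have hcard : Fintype.card {b : AddChar ↥(FF hq hK) ℂ // b ≠ 1} = q - 1 := by
    rw [Fintype.card_subtype_compl, Fintype.card_subtype_eq, card_F_chars hq hK]
  obtain ⟨eA, heA, hA⟩ := nA_xb hq hK
  obtain ⟨e9, he9, hA9⟩ := nA_x9 hq hK
  obtain ⟨e10, he10, hA10⟩ := nA_x10 hq hK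
  have hinv : ∀ v : Fin k → ℂ, ∀ g : GG K q, ρ g v = 0 → v = 0 := fun v g h => by
    have := congrArg (ρ g⁻¹) h
    rwa [← Module.End.mul_apply, ← map_mul, inv_mul_cancel, map_one, map_zero] at this
  have image : ∀ (b : AddChar ↥(FF hq hK) ℂ) (v : Fin k → ℂ), (∀ s, ρ (xb hq hK s) v = v) →
      (∀ r, ρ (x9 hq hK r) v = b r • v) → (∀ r, ρ (x10 hq hK r) v = v) →
      (∀ r, ρ (x9 hq hK r) (ρ (nA hq hK) v) = ρ (nA hq hK) v) ∧
      (∀ r, ρ (x10 hq hK r) (ρ (nA hq hK) v) = ρ (nA hq hK) v) ∧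
      (∀ r, ρ (xb hq hK r) (ρ (nA hq hK) v) =
        b.compAddMonoidHom (AddMonoidHom.mulLeft e9⁻¹) r • ρ (nA hq hK) v) := by
    intro b v hb h9 h10
    refine ⟨fun r => ?_, fun r => ?_, fun r => ?_⟩
    · rw [fixed_image hq hK ρ heA hA (φ := fun _ => 1) (fun s => by rw [one_smul, hb]) r, one_smul]
    · rw [fixed_image hq hK ρ he10 hA10 (φ := fun _ => 1) (fun s => by rw [one_smul, h10]) r, one_smul]
    · exact fixed_image hq hK ρ he9 hA9 (φ := fun s => b s) h9 r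
  rcases Nat.lt_or_ge 2 q with hq2 | hq2
  · obtain ⟨t, ht⟩ := exists_norm hq hK hq2
    have hb : ∀ b s, ρ (xb hq hK s) (v b) = v b := fun b s => xb_fix_large hq hK ρ (hone b) ht (hvp b) s
    have h := fun b => image b.1 (v b) (hb b) (hv9 b) (hv10 b)
    refine hcard ▸ card_le_RR hq hK ρ
      (fun b : {b : AddChar ↥(FF hq hK) ℂ // b ≠ 1} => b.1.compAddMonoidHom (AddMonoidHom.mulLeft e9⁻¹))
      (fun b b' hbb => Subtype.ext (by
        ext r
        have := DFunLike.congr_fun hbb (e9 * r)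
        simpa [he9] using this))
      (fun b => ρ (nA hq hK) (v b)) (fun b h0 => hv0 b (hinv _ _ h0))
      (fun b => (h b).1) (fun b => (h b).2.1) (fun b => (h b).2.2)
  · have hq2' : q = 2 := le_antisymm hq2 hq.one_lt
    obtain ⟨b⟩ : Nonempty {b : AddChar ↥(FF hq hK) ℂ // b ≠ 1} := ⟨⟨c, hc⟩⟩
    have h01 : ∀ s : ↥(FF hq hK), s = 0 ∨ s = 1 := fun s => by
      have h' : (s : K) ^ 2 = s := (congrArg (fun n => (s : K) ^ n) hq2').symm.trans (FF_pow hq hK s)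
      rw [sq] at h'
      rcases mul_eq_zero.1 (show (s : K) * ((s : K) - 1) = 0 by rw [mul_sub, mul_one, h', sub_self]) with h | h
      · exact Or.inl (Subtype.ext h)
      · exact Or.inr (Subtype.ext (sub_eq_zero.1 h))
    have h2 : (1 : ↥(FF hq hK)) + 1 = 0 := by
      rcases h01 (1 + 1) with h | h
      · exact h
      · exact absurd (add_eq_left.1 h) one_ne_zero
    have hxb0 : xb hq hK 0 = 1 := by have := xb_add hq hK 0 0; rwa [add_zero, left_eq_mul] at this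
    obtain ⟨a, ha⟩ := exists_scalar (fA hq hK) ρ (fA_add hq hK) (xb hq hK 1) (shB hq hK 1) (xb_fA hq hK 1)
      (ch (1 : AddChar K ℂ) b.1 1) (shB_fix hq hK 1) (hone b)
    have hav : ρ (xb hq hK 1) (v b) = a • v b := by
      rw [← hvp b, ← Module.End.mul_apply, ha, LinearMap.smul_apply]
    have ha2 : a * a = 1 := by
      have : ρ (xb hq hK 1) (ρ (xb hq hK 1) (v b)) = v b := by
        rw [← Module.End.mul_apply, ← map_mul, ← xb_add, h2, hxb0, map_one]; rfl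
      rw [hav, map_smul, hav, smul_smul] at this
      have h := sub_eq_zero.2 this
      nth_rewrite 2 [← one_smul ℂ (v b)] at h
      rw [← sub_smul] at h
      exact sub_eq_zero.1 ((smul_eq_zero.1 h).resolve_right (hv0 b))
    obtain ⟨w, hw0, hwb, hw9, hw10⟩ : ∃ w : Fin k → ℂ, w ≠ 0 ∧ (∀ s, ρ (xb hq hK s) w = w) ∧
        (∀ r, ρ (x9 hq hK r) w = b.1 r • w) ∧ (∀ r, ρ (x10 hq hK r) w = w) := by
      have allb : ∀ w, ρ (xb hq hK 1) w = w → ∀ s, ρ (xb hq hK s) w = w := fun w h s => by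
        rcases h01 s with rfl | rfl
        · rw [hxb0, map_one]; rfl
        · exact h
      rcases mul_self_eq_one_iff.1 ha2 with rfl | rfl
      · exact ⟨v b, hv0 b, allb _ (by rw [hav, one_smul]), hv9 b, hv10 b⟩
      · refine ⟨ρ (xa hq hK 1) (v b), fun h0 => hv0 b (hinv _ _ h0), allb _ ?_, fun r => ?_, fun r => ?_⟩
        · have hb1 : b.1 1 = -1 := by
            have h1 : b.1 1 * b.1 1 = 1 := by rw [← AddChar.map_add_eq_mul, h2, AddChar.map_zero_eq_one]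
            refine (mul_self_eq_one_iff.1 h1).resolve_left fun h => b.2 ?_
            ext s
            rcases h01 s with rfl | rfl
            · rw [AddChar.map_zero_eq_one, AddChar.one_apply]
            · rw [h, AddChar.one_apply]
          have hc2 : (2 : K) = 0 := by
            have := congrArg Subtype.val h2
            rw [← one_add_one_eq_two]; exact this
          rw [← Module.End.mul_apply, ← map_mul, xb_xa_two hq hK hc2]
          simp only [map_mul, Module.End.mul_apply]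
          rw [hv10, hv9, map_smul, map_smul, map_smul, map_smul, hv8, x7_fix_two hq hK ρ (hone b) hq2' (hvp b),
            hav, hb1, map_smul, smul_smul]
          norm_num
        · rw [← Module.End.mul_apply, ← map_mul, ← (ca_9 hq hK 1 r).eq, map_mul, Module.End.mul_apply, hv9, map_smul]
        · rw [← Module.End.mul_apply, ← map_mul, ← (ca_10 hq hK 1 r).eq, map_mul, Module.End.mul_apply, hv10]
    obtain ⟨g9, g10, gb⟩ := image b.1 w hwb hw9 hw10
    have h := card_le_RR hq hK ρ (ι := Unit) (fun _ => b.1.compAddMonoidHom (AddMonoidHom.mulLeft e9⁻¹))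
      (fun _ _ _ => rfl) (fun _ => ρ (nA hq hK) w) (fun _ h0 => hw0 (hinv _ _ h0)) (fun _ => g9) (fun _ => g10)
      (fun _ => gb)
    rw [Fintype.card_unit] at h
    omega

theorem not_dvd (q : ℕ) (hq : 2 ≤ q) (k : ℕ) (hk : (k : ℤ) = (q : ℤ) ^ 5 - (q : ℤ) ^ 3 + q - 1) :
    ¬ k ∣ q ^ 12 * (q ^ 2 - 1) * (q ^ 6 - 1) * (q ^ 8 + q ^ 4 + 1) := by
  intro h
  have h2 : 1 ≤ q ^ 2 := Nat.one_le_pow _ _ (by omega)
  have h6 : 1 ≤ q ^ 6 := Nat.one_le_pow _ _ (by omega)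
  have hz : (k : ℤ) ∣ (q : ℤ) ^ 12 * (((q : ℤ) ^ 2 - 1) * ((q : ℤ) ^ 6 - 1) * ((q : ℤ) ^ 8 + (q : ℤ) ^ 4 + 1)) := by
    have := Int.natCast_dvd_natCast.2 h
    push_cast [Nat.cast_sub h2, Nat.cast_sub h6] at this
    rw [← mul_assoc, ← mul_assoc]
    exact this
  have hcop : IsCoprime (k : ℤ) ((q : ℤ) ^ 12) :=
    IsCoprime.pow_right ⟨-1, (q : ℤ) ^ 4 - (q : ℤ) ^ 2 + 1, by rw [hk]; ring⟩
  have hd := hcop.dvd_of_dvd_mul_left hz
  set Q : ℤ := (q : ℤ)
  have hQ : 2 ≤ Q := by simp only [Q]; exact_mod_cast hq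
  have hr : (k : ℤ) ∣ 3 * Q ^ 4 - 3 * Q ^ 3 - 2 * Q ^ 2 + 4 * Q - 2 := by
    have e : (Q ^ 2 - 1) * (Q ^ 6 - 1) * (Q ^ 8 + Q ^ 4 + 1) -
        (k : ℤ) * (Q ^ 11 + Q ^ 6 - 2 * Q ^ 5 + Q ^ 4 + Q - 3) =
        3 * Q ^ 4 - 3 * Q ^ 3 - 2 * Q ^ 2 + 4 * Q - 2 := by rw [hk]; ring
    rw [← e]
    exact dvd_sub hd (dvd_mul_right _ _)
  have hpos : 0 < 3 * Q ^ 4 - 3 * Q ^ 3 - 2 * Q ^ 2 + 4 * Q - 2 := by
    nlinarith [mul_nonneg (show (0 : ℤ) ≤ Q - 2 by linarith) (pow_nonneg (show (0 : ℤ) ≤ Q by linarith) 3),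
      mul_nonneg (show (0 : ℤ) ≤ Q - 2 by linarith) (pow_nonneg (show (0 : ℤ) ≤ Q by linarith) 2)]
  have hle := Int.le_of_dvd hpos hr
  rw [hk] at hle
  nlinarith [mul_nonneg (show (0 : ℤ) ≤ Q - 2 by linarith) (pow_nonneg (show (0 : ℤ) ≤ Q by linarith) 4),
    mul_nonneg (show (0 : ℤ) ≤ Q - 2 by linarith) (pow_nonneg (show (0 : ℤ) ≤ Q by linarith) 3),
    mul_nonneg (show (0 : ℤ) ≤ Q - 2 by linarith) (pow_nonneg (show (0 : ℤ) ≤ Q by linarith) 2)]

include hq hK hρ hk in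
/-- The bound. -/
theorem main : q * (q ^ 4 - q ^ 2 + 1) ≤ k := by
  obtain ⟨c, hc, hpos⟩ := exists_top hq hK ρ hρ hk
  have h := degree_eq hq hK ρ hc
  have h1 := hq.one_lt
  have hp : q ^ 2 ≤ q ^ 4 := Nat.pow_le_pow_right (by omega) (by norm_num)
  have hq5 : q * (q ^ 4 - q ^ 2 + 1) + q ^ 3 = q ^ 5 + q := by
    have := Nat.sub_add_cancel hp
    calc q * (q ^ 4 - q ^ 2 + 1) + q ^ 3 = q * ((q ^ 4 - q ^ 2 + q ^ 2) + 1) := by ring
      _ = _ := by rw [this]; ring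
  obtain ⟨p, hp1⟩ : ∃ p, q = p + 1 := ⟨q - 1, by omega⟩
  have hA : (q - 1) * q ^ 4 + q ^ 4 = q ^ 5 := by rw [hp1, Nat.add_sub_cancel]; ring
  have hB : (q - 1) * q ^ 3 + q ^ 3 = q ^ 4 := by rw [hp1, Nat.add_sub_cancel]; ring
  rcases Nat.lt_or_ge (mm hq hK ρ c) 2 with hm | hm
  · have hm1 : mm hq hK ρ c = 1 := by
      have : 0 < mm hq hK ρ c := hpos
      omega
    rw [hm1, mul_one, mul_one] at h
    have hR := RR_ge hq hK ρ hρ hk hc hm1
    by_contra hcon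
    have hR' : RR hq hK ρ = q - 1 := by omega
    refine not_dvd q (by omega) k ?_ (dvd_order hq hK ρ hρ)
    have e : k + q ^ 3 + 1 = q ^ 5 + q := by omega
    have := congrArg (Nat.cast : ℕ → ℤ) e
    push_cast at this
    linarith
  · have h2 : (q - 1) * q ^ 4 * 2 ≤ (q - 1) * q ^ 4 * mm hq hK ρ c := Nat.mul_le_mul_left _ hm
    have h3 : 2 * q ^ 4 ≤ q ^ 5 := by rw [pow_succ' q 4]; exact Nat.mul_le_mul_right _ h1
    have h4 : q ≤ q ^ 3 := Nat.le_self_pow (by norm_num) q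
    omega

end CfsgLib.D4Deg
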