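import Cfsg.Agent.Lib.Chev.Twist.VanD4Elem
import Cfsg.Agent.Lib.Chev.Twist.OrderD4
import Cfsg.Agent.Lib.Chev.SL2Hom

/-! Root elements, relations and torus elements of ³D₄. -/

set_option autoImplicit false
set_option linter.unusedSectionVars false
set_option linter.unusedSimpArgs false
set_option linter.dupNamespace false
set_option maxRecDepth 100000

namespace CfsgLib.D4Deg

open Cfsg.Lie CfsgLib.Chev CfsgLib.Chev.Chev CfsgLib.Chev.T3D4

section Raw

variable {K : Type*} [Field K]

/-- A root element of D₄. -/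
noncomputable abbrev Y (r : Fin Cfsg.Lie.chevD4.nroots) (c : K) : GL Cfsg.Lie.chevD4.Idx K :=
  CfsgLib.Chev.chevD4.toAlg.xg r c

theorem Y_comm {r s : Fin Cfsg.Lie.chevD4.nroots} (hneg : s.val ≠ Cfsg.Lie.chevD4.neg r.val)
    (hne : s ≠ r) (h : Cfsg.Lie.chevD4.commTerms r.val s.val = []) (t u : K) :
    Commute (Y r t) (Y s u) := by
  refine Units.ext ?_
  have := CfsgLib.Chev.chevD4.commutator_formula (r := r) (s := s) (R := K) hne
    (fun e => hneg ((congrArg Fin.val e).trans (CfsgLib.Chev.chevD4.negIdx_eq _).symm)) t u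
  rw [h] at this
  simp only [Units.val_mul, Alg.xg_val]
  rw [this]
  simp [Sys.termProd]

theorem Y_swap {r s w : Fin Cfsg.Lie.chevD4.nroots} (hneg : s.val ≠ Cfsg.Lie.chevD4.neg r.val)
    (hne : s ≠ r) (c : ℤ) (h : Cfsg.Lie.chevD4.commTerms r.val s.val = [(w.val, c, 1, 1)]) (t u : K) :
    Y s u * Y r t = Y r t * Y s u * Y w ((c : K) * -t * u) := by
  refine Units.ext ?_
  have := CfsgLib.Chev.chevD4.commutator_formula (r := r) (s := s) (R := K) hne
    (fun e => hneg ((congrArg Fin.val e).trans (CfsgLib.Chev.chevD4.negIdx_eq _).symm)) t u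
  rw [h] at this
  simp only [Units.val_mul, Alg.xg_val]
  rw [this]
  simp [Sys.termProd, Sys.XN]

theorem Y_swap' {r s w : Fin Cfsg.Lie.chevD4.nroots} (hneg : s.val ≠ Cfsg.Lie.chevD4.neg r.val)
    (hne : s ≠ r) (hws : Cfsg.Lie.chevD4.commTerms s.val w.val = []) (hwn : w.val ≠ Cfsg.Lie.chevD4.neg s.val)
    (hwe : w ≠ s) (hwr : Cfsg.Lie.chevD4.commTerms r.val w.val = []) (hwn' : w.val ≠ Cfsg.Lie.chevD4.neg r.val)
    (hwe' : w ≠ r) (c : ℤ) (h : Cfsg.Lie.chevD4.commTerms r.val s.val = [(w.val, c, 1, 1)]) (t u : K) :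
    Y r t * Y s u = Y s u * Y w ((c : K) * t * u) * Y r t := by
  have e := Y_swap (w := w) hneg hne c h t u
  have c1 : Commute (Y w ((c : K) * t * u)) (Y r t) := (Y_comm hwn' hwe' hwr t _).symm
  calc Y r t * Y s u = Y r t * Y s u * (Y w ((c : K) * -t * u) * Y w ((c : K) * t * u)) := by
        rw [← Alg.xg_add, show (c : K) * -t * u + (c : K) * t * u = 0 by ring, Alg.xg_zero, mul_one]
    _ = Y s u * Y r t * Y w ((c : K) * t * u) := by rw [← mul_assoc, ← e]
    _ = _ := by rw [mul_assoc (Y s u) (Y r t), ← c1.eq, ← mul_assoc]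

/-- Moving one product of three past another. -/
theorem three_swap {G : Type*} [Group G] {a₁ a₂ a₃ b₁ b₂ b₃ z₁ z₂ z₃ : G}
    (h1 : a₁ * b₁ = b₁ * z₁ * a₁) (h2 : a₂ * b₂ = b₂ * z₂ * a₂) (h3 : a₃ * b₃ = b₃ * z₃ * a₃)
    (c12 : Commute a₁ b₂) (c13 : Commute a₁ b₃) (c21 : Commute a₂ b₁) (c23 : Commute a₂ b₃)
    (c31 : Commute a₃ b₁) (c32 : Commute a₃ b₂)
    (d12 : Commute a₁ z₂) (d13 : Commute a₁ z₃) (d23 : Commute a₂ z₃)
    (e1 : Commute z₁ b₂) (e2 : Commute z₁ b₃) (e3 : Commute z₂ b₃) :
    a₁ * a₂ * a₃ * (b₁ * b₂ * b₃) = b₁ * b₂ * b₃ * (z₁ * z₂ * z₃) * (a₁ * a₂ * a₃) := by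
  have f3 : a₃ * (b₁ * b₂ * b₃) = b₁ * b₂ * b₃ * z₃ * a₃ := by
    rw [← mul_assoc, (c31.mul_right c32).eq, mul_assoc (b₁ * b₂) a₃, h3]
    simp only [mul_assoc]
  have f2 : a₂ * (b₁ * b₂ * b₃) = b₁ * b₂ * b₃ * z₂ * a₂ := by
    calc a₂ * (b₁ * b₂ * b₃) = b₁ * (a₂ * b₂) * b₃ := by
          rw [← mul_assoc, ← mul_assoc, c21.eq, mul_assoc b₁ a₂]
      _ = b₁ * b₂ * (z₂ * b₃) * a₂ := by
          rw [h2]; simp only [mul_assoc]; rw [c23.eq]
      _ = _ := by rw [e3.eq]; simp only [mul_assoc]
  have f1 : a₁ * (b₁ * b₂ * b₃) = b₁ * b₂ * b₃ * z₁ * a₁ := by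
    calc a₁ * (b₁ * b₂ * b₃) = a₁ * b₁ * (b₂ * b₃) := by simp only [mul_assoc]
      _ = b₁ * (z₁ * (b₂ * b₃)) * a₁ := by
          rw [h1]; simp only [mul_assoc]; rw [(c12.mul_right c13).eq]; simp only [mul_assoc]
      _ = _ := by rw [(e1.mul_right e2).eq]; simp only [mul_assoc]
  calc a₁ * a₂ * a₃ * (b₁ * b₂ * b₃) = a₁ * a₂ * (a₃ * (b₁ * b₂ * b₃)) := by simp only [mul_assoc]
    _ = a₁ * (a₂ * (b₁ * b₂ * b₃)) * (z₃ * a₃) := by rw [f3]; simp only [mul_assoc]
    _ = a₁ * (b₁ * b₂ * b₃) * (z₂ * (a₂ * z₃) * a₃) := by rw [f2]; simp only [mul_assoc]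
    _ = b₁ * b₂ * b₃ * z₁ * (a₁ * (z₂ * z₃)) * (a₂ * a₃) := by rw [f1, d23.eq]; simp only [mul_assoc]
    _ = _ := by rw [(d12.mul_right d13).eq]; simp only [mul_assoc]

end Raw

variable {K : Type*} [Field K] [Fintype K] {q : ℕ} (hq : IsPrimePow q) (hK : Fintype.card K = q ^ 3)

/-- The group. -/
abbrev GG (K : Type*) [Field K] (q : ℕ) := ↥(twistedD4 K q)

/-- The Frobenius automorphism. -/
noncomputable def frob : K ≃+* K := (exists_sigma hq hK).choose

theorem frob_apply (x : K) : frob hq hK x = x ^ q := (exists_sigma hq hK).choose_spec x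

theorem frob_cube (x : K) : frob hq hK (frob hq hK (frob hq hK x)) = x := by
  rw [frob_apply, frob_apply, frob_apply]; exact pow_q3 hK x

/-- The fixed field of the Frobenius automorphism. -/
noncomputable abbrev FF : Subfield K := fq (frob hq hK : K →+* K)

noncomputable instance : Fintype ↥(FF hq hK) := Fintype.ofFinite _

theorem FF_pow (s : ↥(FF hq hK)) : (s : K) ^ q = s := by
  rw [← frob_apply hq hK]; exact s.2

theorem card_FF : Fintype.card ↥(FF hq hK) = q := by
  rw [← Nat.card_eq_fintype_card]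
  exact card_fq hq hK (fun x => frob_apply hq hK x)

/-- The trace. -/
theorem tr_mem (x : K) : x + frob hq hK x + frob hq hK (frob hq hK x) ∈ FF hq hK := by
  show frob hq hK (x + frob hq hK x + frob hq hK (frob hq hK x)) = x + frob hq hK x + frob hq hK (frob hq hK x)
  rw [map_add, map_add, frob_cube]
  abel

/-- The trace, as a map. -/
noncomputable def tr : K →+ ↥(FF hq hK) where
  toFun x := ⟨_, tr_mem hq hK x⟩
  map_zero' := Subtype.ext (by simp)
  map_add' x y := Subtype.ext (by push_cast; simp only [map_add]; abel)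

theorem tr_val (x : K) : (tr hq hK x : K) = x + frob hq hK x + frob hq hK (frob hq hK x) := rfl

theorem app_Y (r s : Fin Cfsg.Lie.chevD4.nroots) (e : ℤ) (hr : symD4.mor.ρ r.val = s.val)
    (he : symD4.mor.e r.val = e) (t : K) :
    (tw hq hK).app (Y r t) = Y s ((e : K) * frob hq hK t) := by
  have hX := setup hq hK (frob_apply hq hK)
  rw [Tw.app_xg' hX, he, show S.ρ r = s from Fin.ext (by rw [hX.rho, hr])]

theorem fixed_root (r : Fin Cfsg.Lie.chevD4.nroots) (hr : symD4.mor.ρ r.val = r.val) (s : ↥(FF hq hK)) :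
    Y r (s : K) ∈ twistedD4 K q := xg_fixed_mem hq hK hr (FF_pow hq hK s)

theorem orbit_mem {a b c : Fin Cfsg.Lie.chevD4.nroots} (ea eb ec : ℤ) (ha : symD4.mor.ρ a.val = b.val)
    (hea : symD4.mor.e a.val = ea) (hb : symD4.mor.ρ b.val = c.val) (heb : symD4.mor.e b.val = eb)
    (hc : symD4.mor.ρ c.val = a.val) (hec : symD4.mor.e c.val = ec)
    (hab : Cfsg.Lie.chevD4.commTerms a.val b.val = []) (hab' : b.val ≠ Cfsg.Lie.chevD4.neg a.val) (hne : b ≠ a)
    (hac : Cfsg.Lie.chevD4.commTerms a.val c.val = []) (hac' : c.val ≠ Cfsg.Lie.chevD4.neg a.val) (hne' : c ≠ a)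
    (he : ec * eb * ea = 1) (t : K) :
    Y a t * Y b ((ea : K) * frob hq hK t) * Y c ((eb : K) * ((ea : K) * frob hq hK (frob hq hK t))) ∈
      twistedD4 K q := by
  rw [eq_fix hq hK]
  have g := fun r (x : K) => CfsgLib.Chev.chevD4.toAlg.xg_mem_group r x
  refine (Tw.mem_fix _).2 ⟨mul_mem (mul_mem (g _ _) (g _ _)) (g _ _), ?_⟩
  rw [Tw.app_mul _ (mul_mem (g _ _) (g _ _)) (g _ _), Tw.app_mul _ (g _ _) (g _ _),
    app_Y hq hK a b ea ha hea, app_Y hq hK b c eb hb heb, app_Y hq hK c a ec hc hec]
  have h3 : (ec : K) * frob hq hK ((eb : K) * ((ea : K) * frob hq hK (frob hq hK t))) = t := by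
    rw [map_mul, map_mul, map_intCast, map_intCast, frob_cube, ← mul_assoc, ← mul_assoc, ← Int.cast_mul,
      ← Int.cast_mul, he, Int.cast_one, one_mul]
  rw [h3, map_mul, map_intCast, ((Y_comm hab' hne hab _ _).mul_right (Y_comm hac' hne' hac _ _)).symm.eq,
    mul_assoc]

/-- A rational root element of the long fundamental root. -/
noncomputable def xb (s : ↥(FF hq hK)) : GG K q := ⟨Y (rt 14) (s : K), fixed_root hq hK (rt 14) (by decide +kernel) s⟩

/-- A rational root element of the root 3a+b. -/
noncomputable def x9 (s : ↥(FF hq hK)) : GG K q := ⟨Y (rt 22) (s : K), fixed_root hq hK (rt 22) (by decide +kernel) s⟩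

/-- A rational root element of the highest root. -/
noncomputable def x10 (s : ↥(FF hq hK)) : GG K q := ⟨Y (rt 23) (s : K), fixed_root hq hK (rt 23) (by decide +kernel) s⟩

/-- An element of the root a+b. -/
noncomputable def x7 (t : K) : GG K q :=
  ⟨Y (rt 15) t * Y (rt 19) (((-1 : ℤ) : K) * frob hq hK t) *
      Y (rt 16) (((-1 : ℤ) : K) * (((-1 : ℤ) : K) * frob hq hK (frob hq hK t))),
    orbit_mem hq hK (a := rt 15) (b := rt 19) (c := rt 16) (-1) (-1) 1 (by decide +kernel) (by decide +kernel)
      (by decide +kernel) (by decide +kernel) (by decide +kernel) (by decide +kernel) (by decide +kernel)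
      (by decide +kernel) (by decide) (by decide +kernel) (by decide +kernel) (by decide) (by decide) t⟩

/-- An element of the root 2a+b. -/
noncomputable def x8 (t : K) : GG K q :=
  ⟨Y (rt 17) t * Y (rt 20) (((-1 : ℤ) : K) * frob hq hK t) *
      Y (rt 21) (((1 : ℤ) : K) * (((-1 : ℤ) : K) * frob hq hK (frob hq hK t))),
    orbit_mem hq hK (a := rt 17) (b := rt 20) (c := rt 21) (-1) 1 (-1) (by decide +kernel) (by decide +kernel)
      (by decide +kernel) (by decide +kernel) (by decide +kernel) (by decide +kernel) (by decide +kernel)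
      (by decide +kernel) (by decide) (by decide +kernel) (by decide +kernel) (by decide) (by decide) t⟩

/-- An element of the short fundamental root. -/
noncomputable def xa (t : K) : GG K q :=
  ⟨Y (rt 18) t * Y (rt 13) (((1 : ℤ) : K) * frob hq hK t) *
      Y (rt 12) (((1 : ℤ) : K) * (((1 : ℤ) : K) * frob hq hK (frob hq hK t))),
    orbit_mem hq hK (a := rt 18) (b := rt 13) (c := rt 12) 1 1 1 (by decide +kernel) (by decide +kernel)
      (by decide +kernel) (by decide +kernel) (by decide +kernel) (by decide +kernel) (by decide +kernel)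
      (by decide +kernel) (by decide) (by decide +kernel) (by decide +kernel) (by decide) (by decide) t⟩

theorem xb_val (s : ↥(FF hq hK)) : ((xb hq hK s : GG K q) : GL Cfsg.Lie.chevD4.Idx K) = Y (rt 14) (s : K) := rfl
theorem x9_val (s : ↥(FF hq hK)) : ((x9 hq hK s : GG K q) : GL Cfsg.Lie.chevD4.Idx K) = Y (rt 22) (s : K) := rfl
theorem x10_val (s : ↥(FF hq hK)) : ((x10 hq hK s : GG K q) : GL Cfsg.Lie.chevD4.Idx K) = Y (rt 23) (s : K) := rfl

theorem x7_val (t : K) : ((x7 hq hK t : GG K q) : GL Cfsg.Lie.chevD4.Idx K) =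
    Y (rt 15) t * Y (rt 19) (-frob hq hK t) * Y (rt 16) (frob hq hK (frob hq hK t)) := by
  show Y _ t * Y _ _ * Y _ _ = _
  simp

theorem x8_val (t : K) : ((x8 hq hK t : GG K q) : GL Cfsg.Lie.chevD4.Idx K) =
    Y (rt 17) t * Y (rt 20) (-frob hq hK t) * Y (rt 21) (-frob hq hK (frob hq hK t)) := by
  show Y _ t * Y _ _ * Y _ _ = _
  simp

theorem xa_val (t : K) : ((xa hq hK t : GG K q) : GL Cfsg.Lie.chevD4.Idx K) =
    Y (rt 18) t * Y (rt 13) (frob hq hK t) * Y (rt 12) (frob hq hK (frob hq hK t)) := by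
  show Y _ t * Y _ _ * Y _ _ = _
  simp

theorem xb_add (s t : ↥(FF hq hK)) : xb hq hK (s + t) = xb hq hK s * xb hq hK t :=
  Subtype.ext (by rw [Subgroup.coe_mul, xb_val, xb_val, xb_val, Subfield.coe_add]; exact Alg.xg_add _ _ _ _)

theorem x9_add (s t : ↥(FF hq hK)) : x9 hq hK (s + t) = x9 hq hK s * x9 hq hK t :=
  Subtype.ext (by rw [Subgroup.coe_mul, x9_val, x9_val, x9_val, Subfield.coe_add]; exact Alg.xg_add _ _ _ _)

theorem x10_add (s t : ↥(FF hq hK)) : x10 hq hK (s + t) = x10 hq hK s * x10 hq hK t :=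
  Subtype.ext (by rw [Subgroup.coe_mul, x10_val, x10_val, x10_val, Subfield.coe_add]; exact Alg.xg_add _ _ _ _)

theorem triple_add {G : Type*} [Group G] {a a' b b' c c' : G} (h1 : Commute a' b) (h2 : Commute a' c)
    (h3 : Commute b' c) : a * b * c * (a' * b' * c') = a * a' * (b * b') * (c * c') := by
  calc a * b * c * (a' * b' * c') = a * (b * (c * a')) * (b' * c') := by simp only [mul_assoc]
    _ = a * ((b * a') * c) * (b' * c') := by rw [← h2.eq]; simp only [mul_assoc]
    _ = a * a' * (b * (c * b')) * c' := by rw [← h1.eq]; simp only [mul_assoc]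
    _ = _ := by rw [← h3.eq]; simp only [mul_assoc]

theorem x7_add (s t : K) : x7 hq hK (s + t) = x7 hq hK s * x7 hq hK t :=
  Subtype.ext (by
    rw [Subgroup.coe_mul, x7_val, x7_val, x7_val, triple_add (Y_comm (by decide +kernel) (by decide) (by decide +kernel) _ _)
      (Y_comm (by decide +kernel) (by decide) (by decide +kernel) _ _)
      (Y_comm (by decide +kernel) (by decide) (by decide +kernel) _ _),
      ← Alg.xg_add, ← Alg.xg_add, ← Alg.xg_add, map_add, map_add, neg_add])

theorem x8_add (s t : K) : x8 hq hK (s + t) = x8 hq hK s * x8 hq hK t :=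
  Subtype.ext (by
    rw [Subgroup.coe_mul, x8_val, x8_val, x8_val, triple_add (Y_comm (by decide +kernel) (by decide) (by decide +kernel) _ _)
      (Y_comm (by decide +kernel) (by decide) (by decide +kernel) _ _)
      (Y_comm (by decide +kernel) (by decide) (by decide +kernel) _ _),
      ← Alg.xg_add, ← Alg.xg_add, ← Alg.xg_add, map_add, map_add, neg_add, neg_add])

theorem c8_9 (u : K) (s : ↥(FF hq hK)) : Commute (x8 hq hK u) (x9 hq hK s) :=
  Subtype.ext (show _ * _ = _ * _ by
    rw [x8_val, x9_val]; exact ((Commute.mul_left (Commute.mul_left (Y_comm (by decide +kernel) (by decide) (by decide +kernel) _ _)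
      (Y_comm (by decide +kernel) (by decide) (by decide +kernel) _ _)) (Y_comm (by decide +kernel) (by decide) (by decide +kernel) _ _))).eq)

theorem c8_10 (u : K) (s : ↥(FF hq hK)) : Commute (x8 hq hK u) (x10 hq hK s) :=
  Subtype.ext (show _ * _ = _ * _ by
    rw [x8_val, x10_val]; exact ((Commute.mul_left (Commute.mul_left (Y_comm (by decide +kernel) (by decide) (by decide +kernel) _ _)
      (Y_comm (by decide +kernel) (by decide) (by decide +kernel) _ _)) (Y_comm (by decide +kernel) (by decide) (by decide +kernel) _ _))).eq)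

theorem c7_9 (u : K) (s : ↥(FF hq hK)) : Commute (x7 hq hK u) (x9 hq hK s) :=
  Subtype.ext (show _ * _ = _ * _ by
    rw [x7_val, x9_val]; exact ((Commute.mul_left (Commute.mul_left (Y_comm (by decide +kernel) (by decide) (by decide +kernel) _ _)
      (Y_comm (by decide +kernel) (by decide) (by decide +kernel) _ _)) (Y_comm (by decide +kernel) (by decide) (by decide +kernel) _ _))).eq)

theorem c7_10 (u : K) (s : ↥(FF hq hK)) : Commute (x7 hq hK u) (x10 hq hK s) :=
  Subtype.ext (show _ * _ = _ * _ by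
    rw [x7_val, x10_val]; exact ((Commute.mul_left (Commute.mul_left (Y_comm (by decide +kernel) (by decide) (by decide +kernel) _ _)
      (Y_comm (by decide +kernel) (by decide) (by decide +kernel) _ _)) (Y_comm (by decide +kernel) (by decide) (by decide +kernel) _ _))).eq)

theorem ca_9 (u : K) (s : ↥(FF hq hK)) : Commute (xa hq hK u) (x9 hq hK s) :=
  Subtype.ext (show _ * _ = _ * _ by
    rw [xa_val, x9_val]; exact ((Commute.mul_left (Commute.mul_left (Y_comm (by decide +kernel) (by decide) (by decide +kernel) _ _)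
      (Y_comm (by decide +kernel) (by decide) (by decide +kernel) _ _)) (Y_comm (by decide +kernel) (by decide) (by decide +kernel) _ _))).eq)

theorem ca_10 (u : K) (s : ↥(FF hq hK)) : Commute (xa hq hK u) (x10 hq hK s) :=
  Subtype.ext (show _ * _ = _ * _ by
    rw [xa_val, x10_val]; exact ((Commute.mul_left (Commute.mul_left (Y_comm (by decide +kernel) (by decide) (by decide +kernel) _ _)
      (Y_comm (by decide +kernel) (by decide) (by decide +kernel) _ _)) (Y_comm (by decide +kernel) (by decide) (by decide +kernel) _ _))).eq)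

theorem cb_8 (u : K) (s : ↥(FF hq hK)) : Commute (x8 hq hK u) (xb hq hK s) :=
  Subtype.ext (show _ * _ = _ * _ by
    rw [x8_val, xb_val]; exact ((Commute.mul_left (Commute.mul_left (Y_comm (by decide +kernel) (by decide) (by decide +kernel) _ _)
      (Y_comm (by decide +kernel) (by decide) (by decide +kernel) _ _)) (Y_comm (by decide +kernel) (by decide) (by decide +kernel) _ _))).eq)

theorem cb_10 (r s : ↥(FF hq hK)) : Commute (x10 hq hK r) (xb hq hK s) :=
  Subtype.ext (show _ * _ = _ * _ by rw [x10_val, xb_val]; exact (Commute.eq (Y_comm (by decide +kernel) (by decide) (by decide +kernel) _ _)))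

theorem c9_10 (r s : ↥(FF hq hK)) : Commute (x9 hq hK r) (x10 hq hK s) :=
  Subtype.ext (show _ * _ = _ * _ by rw [x9_val, x10_val]; exact (Commute.eq (Y_comm (by decide +kernel) (by decide) (by decide +kernel) _ _)))

theorem xb_x9 (s r : ↥(FF hq hK)) : xb hq hK s * x9 hq hK r = x9 hq hK r * x10 hq hK (s * r) * xb hq hK s :=
  Subtype.ext (by
    simp only [Subgroup.coe_mul, xb_val, x9_val, x10_val, Subfield.coe_mul]
    have := Y_swap' (r := rt 14) (s := rt 22) (w := rt 23) (by decide +kernel) (by decide) (by decide +kernel)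
      (by decide +kernel) (by decide) (by decide +kernel) (by decide +kernel) (by decide) 1 (by decide +kernel) (s : K) (r : K)
    rwa [Int.cast_one, one_mul] at this)

theorem xa_x8 (t u : K) : xa hq hK t * x8 hq hK u = x8 hq hK u * x9 hq hK (-tr hq hK (t * u)) * xa hq hK t := by
  refine Subtype.ext ?_
  simp only [Subgroup.coe_mul, xa_val, x8_val, x9_val]
  rw [three_swap
    (Y_swap' (r := rt 18) (s := rt 17) (w := rt 22) (by decide +kernel) (by decide) (by decide +kernel)
      (by decide +kernel) (by decide) (by decide +kernel) (by decide +kernel) (by decide) (-1) (by decide +kernel) t u)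
    (Y_swap' (r := rt 13) (s := rt 20) (w := rt 22) (by decide +kernel) (by decide) (by decide +kernel)
      (by decide +kernel) (by decide) (by decide +kernel) (by decide +kernel) (by decide) 1 (by decide +kernel)
      (frob hq hK t) (-frob hq hK u))
    (Y_swap' (r := rt 12) (s := rt 21) (w := rt 22) (by decide +kernel) (by decide) (by decide +kernel)
      (by decide +kernel) (by decide) (by decide +kernel) (by decide +kernel) (by decide) 1 (by decide +kernel)
      (frob hq hK (frob hq hK t)) (-frob hq hK (frob hq hK u)))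
    (Y_comm (by decide +kernel) (by decide) (by decide +kernel) _ _)
      (Y_comm (by decide +kernel) (by decide) (by decide +kernel) _ _)
      (Y_comm (by decide +kernel) (by decide) (by decide +kernel) _ _)
      (Y_comm (by decide +kernel) (by decide) (by decide +kernel) _ _)
      (Y_comm (by decide +kernel) (by decide) (by decide +kernel) _ _)
      (Y_comm (by decide +kernel) (by decide) (by decide +kernel) _ _)
      (Y_comm (by decide +kernel) (by decide) (by decide +kernel) _ _)
      (Y_comm (by decide +kernel) (by decide) (by decide +kernel) _ _)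
    (Y_comm (by decide +kernel) (by decide) (by decide +kernel) _ _)
      (Y_comm (by decide +kernel) (by decide) (by decide +kernel) _ _)
      (Y_comm (by decide +kernel) (by decide) (by decide +kernel) _ _)
      (Y_comm (by decide +kernel) (by decide) (by decide +kernel) _ _)]
  rw [← Alg.xg_add, ← Alg.xg_add, NegMemClass.coe_neg, tr_val, map_mul, map_mul]
  push_cast
  congr 2
  congr 1
  ring

theorem x7_x8 (t u : K) : x7 hq hK t * x8 hq hK u =
    x8 hq hK u * x10 hq hK (tr hq hK (t * frob hq hK (frob hq hK u))) * x7 hq hK t := by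
  refine Subtype.ext ?_
  have hB : ∀ x y z : K, Y (rt 17) x * Y (rt 20) y * Y (rt 21) z = Y (rt 21) z * Y (rt 17) x * Y (rt 20) y :=
    fun x y z => by
      rw [((show Commute (Y (rt 21) z) (Y (rt 17) x * Y (rt 20) y) from
        Commute.mul_right (Y_comm (by decide +kernel) (by decide) (by decide +kernel) _ _)
      (Y_comm (by decide +kernel) (by decide) (by decide +kernel) _ _))).eq.symm]
      simp only [mul_assoc]
  simp only [Subgroup.coe_mul, x7_val, x8_val, x10_val]
  rw [hB, three_swap
    (Y_swap' (r := rt 15) (s := rt 21) (w := rt 23) (by decide +kernel) (by decide) (by decide +kernel)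
      (by decide +kernel) (by decide) (by decide +kernel) (by decide +kernel) (by decide) (-1) (by decide +kernel)
      t (-frob hq hK (frob hq hK u)))
    (Y_swap' (r := rt 19) (s := rt 17) (w := rt 23) (by decide +kernel) (by decide) (by decide +kernel)
      (by decide +kernel) (by decide) (by decide +kernel) (by decide +kernel) (by decide) (-1) (by decide +kernel)
      (-frob hq hK t) u)
    (Y_swap' (r := rt 16) (s := rt 20) (w := rt 23) (by decide +kernel) (by decide) (by decide +kernel)
      (by decide +kernel) (by decide) (by decide +kernel) (by decide +kernel) (by decide) (-1) (by decide +kernel)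
      (frob hq hK (frob hq hK t)) (-frob hq hK u))
    (Y_comm (by decide +kernel) (by decide) (by decide +kernel) _ _)
      (Y_comm (by decide +kernel) (by decide) (by decide +kernel) _ _)
      (Y_comm (by decide +kernel) (by decide) (by decide +kernel) _ _)
      (Y_comm (by decide +kernel) (by decide) (by decide +kernel) _ _)
      (Y_comm (by decide +kernel) (by decide) (by decide +kernel) _ _)
      (Y_comm (by decide +kernel) (by decide) (by decide +kernel) _ _)
      (Y_comm (by decide +kernel) (by decide) (by decide +kernel) _ _)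
      (Y_comm (by decide +kernel) (by decide) (by decide +kernel) _ _)
    (Y_comm (by decide +kernel) (by decide) (by decide +kernel) _ _)
      (Y_comm (by decide +kernel) (by decide) (by decide +kernel) _ _)
      (Y_comm (by decide +kernel) (by decide) (by decide +kernel) _ _)
      (Y_comm (by decide +kernel) (by decide) (by decide +kernel) _ _)]
  rw [← Alg.xg_add, ← Alg.xg_add, tr_val, map_mul, map_mul, frob_cube]
  push_cast
  congr 2
  congr 1
  ring

end CfsgLib.D4Deg
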